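import Groth.Agent.Dual3Lib.ExtHH
import Groth.Agent.DescSecLib.ExtFunctor
import Groth.Agent.VBP1Lib.Tensor
import Groth.Agent.MiscFlat6.InvDual
import Groth.Agent.NefCurveLib.Vanish

/-!
# Duals of maps of invertible modules, on `Ext`
-/

set_option autoImplicit false
set_option linter.style.haveILetI false
set_option linter.unusedSectionVars false
set_option backward.isDefEq.respectTransparency false
set_option backward.isDefEq.respectTransparency.types false
set_option maxHeartbeats 1000000
set_option synthInstance.maxHeartbeats 100000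

noncomputable section

universe u

open CategoryTheory CategoryTheory.Limits AlgebraicGeometry Abelian
open Groth.Agent

namespace RelLocDualLib

section Abstract

variable {C : Type (u + 1)} [Category.{u} C] [Abelian C] [HasExt.{u} C] (F : C ⥤ C) [F.Additive]
  [PreservesFiniteLimits F] [PreservesFiniteColimits F]

/-- Injectivity of precomposition can be tested after a fully faithful exact functor. -/
theorem injective_precomp_map_iff {M M' G : C} (n : ℕ)
    (hb : ∀ N : C, Function.Bijective fun e : Ext N G n => e.mapExactFunctor F) (φ : M ⟶ M') {Y : C}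
    (v : Y ≅ F.obj M) :
    (Function.Injective fun x : Ext (F.obj M') (F.obj G) n => (Ext.mk₀ (v.hom ≫ F.map φ)).comp x (zero_add n)) ↔
      Function.Injective fun x : Ext M' G n => (Ext.mk₀ φ).comp x (zero_add n) := by
  have hpre : ∀ e : Ext M' G n, (Ext.mk₀ (v.hom ≫ F.map φ)).comp (e.mapExactFunctor F) (zero_add n) =
      (Ext.mk₀ v.hom).comp (((Ext.mk₀ φ).comp e (zero_add n)).mapExactFunctor F) (zero_add n) := by
    intro e
    rw [Ext.mapExactFunctor_comp, Ext.mapExactFunctor_mk₀, ← Ext.mk₀_comp_mk₀,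
      Ext.comp_assoc_of_second_deg_zero]
  have hinv : Function.Injective fun t : Ext (F.obj M) (F.obj G) n => (Ext.mk₀ v.hom).comp t (zero_add n) := by
    intro t t' ht
    have h := congrArg (fun t => (Ext.mk₀ v.inv).comp t (zero_add n)) ht
    simpa using h
  have hR : Function.Injective (fun x : Ext (F.obj M') (F.obj G) n => (Ext.mk₀ (v.hom ≫ F.map φ)).comp x (zero_add n)) ↔
      Function.Injective ((fun x : Ext (F.obj M') (F.obj G) n => (Ext.mk₀ (v.hom ≫ F.map φ)).comp x (zero_add n)) ∘
        fun e : Ext M' G n => e.mapExactFunctor F) :=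
    ⟨fun h => h.comp (hb M').1, fun h => Function.Injective.of_comp_right h (hb M').2⟩
  rw [hR, show ((fun x : Ext (F.obj M') (F.obj G) n => (Ext.mk₀ (v.hom ≫ F.map φ)).comp x (zero_add n)) ∘
      fun e : Ext M' G n => e.mapExactFunctor F) = (fun t => (Ext.mk₀ v.hom).comp t (zero_add n)) ∘
        (fun e : Ext M G n => e.mapExactFunctor F) ∘ fun x : Ext M' G n => (Ext.mk₀ φ).comp x (zero_add n)
    from funext hpre]
  exact ⟨fun h => Function.Injective.of_comp (f := fun e : Ext M G n => e.mapExactFunctor F)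
      (Function.Injective.of_comp (f := fun t => (Ext.mk₀ v.hom).comp t (zero_add n)) h),
    fun h => hinv.comp ((hb M).1.comp h)⟩

end Abstract

variable {X : Scheme.{u}}

theorem isEquivalence_tensorBi {L : X.Modules} (hL : PicF.IsInvertible L) :
    ((DCoh.tensorBi (X := X)).obj L).IsEquivalence := by
  obtain ⟨e⟩ := MiscFlat6.nonempty_dualIso hL
  exact VBP1Lib.isEquivalence_tensor e

theorem isEquivalence_tensorBi_dual {L : X.Modules} (hL : PicF.IsInvertible L) {D : X.Modules}
    (e : CohB1.tensorMod L D ≅ Coh.structureModule X) : ((DCoh.tensorBi (X := X)).obj D).IsEquivalence :=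
  VBP1Lib.isEquivalence_tensor (HilbPolyLib.swapIso D L ≪≫ e)

/-- Evaluation on the dual of an invertible module is an isomorphism. -/
theorem isIso_counit_invertible {L : X.Modules} (hL : PicF.IsInvertible L) [DCoh.HasSheafHom L] (N : X.Modules) :
    IsIso ((DCoh.sheafHomAdj L).counit.app N) := by
  haveI : ((DCoh.tensorBi (X := X)).obj L).IsEquivalence := isEquivalence_tensorBi hL
  haveI : (DCoh.sheafHom L).IsEquivalence := (DCoh.sheafHomAdj L).isEquivalence_right_of_isEquivalence_left
  infer_instance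

variable {L₁ L₂ : X.Modules} (a : L₁ ⟶ L₂)

theorem tens_natural {M N : X.Modules} (g : M ⟶ N) :
    (((DCoh.tensorBi (X := X)).obj L₁)).map g ≫ ((DCoh.tensorBi (X := X)).map a).app N = ((DCoh.tensorBi (X := X)).map a).app M ≫ (((DCoh.tensorBi (X := X)).obj L₂)).map g :=
  ((DCoh.tensorBi (X := X)).map a).naturality g

/-- Tensoring a monomorphism by an invertible module. -/
theorem mono_map_app [Mono a] {D : X.Modules} (hD : (((DCoh.tensorBi (X := X)).obj D)).IsEquivalence) :
    Mono (((DCoh.tensorBi (X := X)).map a).app D) := by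
  haveI := hD
  haveI : Mono (((DCoh.tensorBi (X := X)).obj D).map a) := inferInstance
  have h : ((DCoh.tensorBi (X := X)).obj D).map a ≫ (KFlatLib.tensSwap L₂ D).hom =
      (KFlatLib.tensSwap L₁ D).hom ≫ ((DCoh.tensorBi (X := X)).map a).app D :=
    (NefCurveLib.swapNatIso D).hom.naturality a
  rw [(Iso.inv_comp_eq (KFlatLib.tensSwap L₁ D)).2 h |>.symm]
  infer_instance

variable [DCoh.HasSheafHom L₁] [DCoh.HasSheafHom L₂]

/-- The dual map. -/
abbrev dualMap : (DCoh.sheafHom L₂).obj (Coh.structureModule X) ⟶ (DCoh.sheafHom L₁).obj (Coh.structureModule X) :=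
  (DCoh.sheafHomAdj L₁).homEquiv ((DCoh.sheafHom L₂).obj (Coh.structureModule X)) (Coh.structureModule X)
    ((DCoh.tensorBi.map a).app ((DCoh.sheafHom L₂).obj (Coh.structureModule X)) ≫
      (DCoh.sheafHomAdj L₂).counit.app (Coh.structureModule X))

variable (hL₁ : PicF.IsInvertible L₁) (hL₂ : PicF.IsInvertible L₂) [Mono a]

include hL₁ hL₂ in
/-- The dual map, twisted by the target. -/
theorem map_dualMap :
    haveI := isIso_counit_invertible hL₁ (Coh.structureModule X)
    (((DCoh.tensorBi (X := X)).obj L₂)).map (dualMap a) = (DCoh.sheafHomAdj L₂).counit.app (Coh.structureModule X) ≫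
      inv ((DCoh.sheafHomAdj L₁).counit.app (Coh.structureModule X)) ≫
      ((DCoh.tensorBi (X := X)).map a).app ((DCoh.sheafHom L₁).obj (Coh.structureModule X)) := by
  haveI := isIso_counit_invertible hL₁ (Coh.structureModule X)
  haveI : (((DCoh.tensorBi (X := X)).obj L₂)).IsEquivalence := isEquivalence_tensorBi hL₂
  haveI : (((DCoh.tensorBi (X := X)).obj L₁)).IsEquivalence := isEquivalence_tensorBi hL₁
  set D₁ := (DCoh.sheafHom L₁).obj (Coh.structureModule X)
  set D₂ := (DCoh.sheafHom L₂).obj (Coh.structureModule X)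
  set c₁ := (DCoh.sheafHomAdj L₁).counit.app (Coh.structureModule X)
  set c₂ := (DCoh.sheafHomAdj L₂).counit.app (Coh.structureModule X)
  set η : ((DCoh.tensorBi (X := X)).obj L₁) ⟶ ((DCoh.tensorBi (X := X)).obj L₂) := (DCoh.tensorBi (X := X)).map a
  obtain ⟨ψ, hψ⟩ := (((DCoh.tensorBi (X := X)).obj L₂)).map_surjective (c₂ ≫ inv c₁ ≫ η.app D₁)
  haveI : Mono (η.app D₁) := mono_map_app a (isEquivalence_tensorBi_dual hL₁ (asIso c₁))
  have hφ : (((DCoh.tensorBi (X := X)).obj L₁)).map (dualMap a) ≫ c₁ = η.app D₂ ≫ c₂ := by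
    refine Eq.trans ?_ (((DCoh.sheafHomAdj L₁).homEquiv D₂ _).symm_apply_apply (η.app D₂ ≫ c₂))
    exact (Adjunction.homEquiv_counit _ _ _ _).symm
  suffices dualMap a = ψ by rw [this, hψ]
  refine (((DCoh.tensorBi (X := X)).obj L₁)).map_injective ((cancel_mono (η.app D₁)).1 ?_)
  rw [η.naturality ψ, hψ, (Iso.eq_comp_inv (asIso c₁)).2 hφ, asIso_inv]
  simp only [Category.assoc]
  rfl

variable [HasExt.{u} X.Modules]

/-- Naturality of Yoneda extensions on a bifunctor. -/
theorem injective_mapExt_iff {G M : X.Modules} [(((DCoh.tensorBi (X := X)).obj L₁)).IsEquivalence] [(((DCoh.tensorBi (X := X)).obj L₂)).IsEquivalence] (n : ℕ) :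
    (Function.Injective fun x : Ext ((((DCoh.tensorBi (X := X)).obj L₁)).obj M) ((((DCoh.tensorBi (X := X)).obj L₁)).obj G) n =>
        x.comp (Ext.mk₀ (((DCoh.tensorBi (X := X)).map a).app G)) (add_zero n)) ↔
      Function.Injective fun x : Ext ((((DCoh.tensorBi (X := X)).obj L₂)).obj M) ((((DCoh.tensorBi (X := X)).obj L₂)).obj G) n =>
        (Ext.mk₀ (((DCoh.tensorBi (X := X)).map a).app M)).comp x (zero_add n) := by
  haveI : EnoughInjectives X.Modules := IsGrothendieckAbelian.enoughInjectives.{u}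
  have hn := fun e : Ext M G n =>
    DescSecLib.mapExactFunctor_natTrans ((DCoh.tensorBi (X := X)).map a) e
  have b₁ : Function.Bijective fun e : Ext M G n => e.mapExactFunctor (((DCoh.tensorBi (X := X)).obj L₁)) :=
    (((DCoh.tensorBi (X := X)).obj L₁)).mapExt_bijective_of_preservesInjectiveObjects M G n
  have b₂ : Function.Bijective fun e : Ext M G n => e.mapExactFunctor (((DCoh.tensorBi (X := X)).obj L₂)) :=
    (((DCoh.tensorBi (X := X)).obj L₂)).mapExt_bijective_of_preservesInjectiveObjects M G n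
  constructor
  · intro hi x y hxy
    obtain ⟨x, rfl⟩ := b₂.2 x
    obtain ⟨y, rfl⟩ := b₂.2 y
    exact congrArg _ (b₁.1 (hi ((hn x).trans (hxy.trans (hn y).symm))))
  · intro hi x y hxy
    obtain ⟨x, rfl⟩ := b₁.2 x
    obtain ⟨y, rfl⟩ := b₁.2 y
    exact congrArg _ (b₂.1 (hi ((hn x).symm.trans (hxy.trans (hn y)))))

include hL₁ hL₂ in
/-- Injectivity of `H(G ⊗ L₁) → H(G ⊗ L₂)` as injectivity of precomposition by the dual map. -/
theorem injective_H_iff_precomp (G : X.Modules) (n : ℕ) :
    Function.Injective (Sheaf.H.map ((SheafOfModules.toSheaf X.ringCatSheaf).map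
        ((DCoh.tensorBi.obj G).map a)) n) ↔
      Function.Injective fun x : Ext ((DCoh.sheafHom L₁).obj (Coh.structureModule X)) G n =>
        (Ext.mk₀ (dualMap a)).comp x (zero_add n) := by
  haveI : EnoughInjectives X.Modules := IsGrothendieckAbelian.enoughInjectives.{u}
  haveI : (((DCoh.tensorBi (X := X)).obj L₂)).IsEquivalence := isEquivalence_tensorBi hL₂
  haveI : (((DCoh.tensorBi (X := X)).obj L₁)).IsEquivalence := isEquivalence_tensorBi hL₁
  haveI := isIso_counit_invertible hL₁ (Coh.structureModule X)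
  haveI := isIso_counit_invertible hL₂ (Coh.structureModule X)
  let D₁ := (DCoh.sheafHom L₁).obj (Coh.structureModule X)
  let c₁ := asIso ((DCoh.sheafHomAdj L₁).counit.app (Coh.structureModule X))
  let c₂ := asIso ((DCoh.sheafHomAdj L₂).counit.app (Coh.structureModule X))
  let η : ((DCoh.tensorBi (X := X)).obj L₁) ⟶ ((DCoh.tensorBi (X := X)).obj L₂) := (DCoh.tensorBi (X := X)).map a
  let s : ∀ L : X.Modules, CohB1.tensorMod G L ≅ (((DCoh.tensorBi (X := X)).obj L)).obj G := fun L => KFlatLib.tensSwap L G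
  have hsw : (DCoh.tensorBi.obj G).map a ≫ (s L₂).hom = (s L₁).hom ≫ η.app G :=
    (NefCurveLib.swapNatIso G).hom.naturality a
  -- cohomology is `Ext` out of `T L₁ D₁`
  let Θ : ∀ L : X.Modules, Ext ((((DCoh.tensorBi (X := X)).obj L₁)).obj D₁) ((((DCoh.tensorBi (X := X)).obj L)).obj G) n ≃ Coh.HH X (CohB1.tensorMod G L) n := fun L =>
    { toFun := fun x => Dual3Lib.extHHEquiv _ n
        (((Ext.mk₀ c₁.inv).comp x (zero_add n)).comp (Ext.mk₀ (s L).inv) (add_zero n))
      invFun := fun y => (Ext.mk₀ c₁.hom).comp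
        (((Dual3Lib.extHHEquiv _ n).symm y).comp (Ext.mk₀ (s L).hom) (add_zero n)) (zero_add n)
      left_inv := fun x => by simp
      right_inv := fun y => by simp }
  have hΘ : ∀ x, Θ L₂ (x.comp (Ext.mk₀ (η.app G)) (add_zero n)) =
      Sheaf.H.map ((SheafOfModules.toSheaf X.ringCatSheaf).map ((DCoh.tensorBi.obj G).map a)) n (Θ L₁ x) := fun x => by
    refine Eq.trans ?_ (Dual3Lib.extHH_natural ((DCoh.tensorBi.obj G).map a) n _)
    refine congrArg (Dual3Lib.extHH _ n) ?_
    rw [← Ext.comp_assoc_of_third_deg_zero, Ext.comp_assoc_of_third_deg_zero, Ext.mk₀_comp_mk₀,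
      Ext.comp_assoc_of_third_deg_zero (α := _) (β := Ext.mk₀ (s L₁).inv), Ext.mk₀_comp_mk₀]
    congr 2
    rw [Iso.eq_inv_comp, ← Category.assoc, ← hsw, Category.assoc, Iso.hom_inv_id, Category.comp_id]
  have h1 : Function.Injective (Sheaf.H.map ((SheafOfModules.toSheaf X.ringCatSheaf).map
        ((DCoh.tensorBi.obj G).map a)) n) ↔
      Function.Injective fun x : Ext ((((DCoh.tensorBi (X := X)).obj L₁)).obj D₁) ((((DCoh.tensorBi (X := X)).obj L₁)).obj G) n =>
        x.comp (Ext.mk₀ (η.app G)) (add_zero n) := by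
    constructor
    · intro hi x y hxy
      exact (Θ L₁).injective (hi (((hΘ x).symm.trans (congrArg _ hxy)).trans (hΘ y)))
    · intro hi x y hxy
      obtain ⟨x, rfl⟩ := (Θ L₁).surjective x
      obtain ⟨y, rfl⟩ := (Θ L₁).surjective y
      exact congrArg _ (hi ((Θ L₂).injective ((hΘ x).trans (hxy.trans (hΘ y).symm))))
  rw [h1, injective_mapExt_iff a n]
  rw [map_dualMap a hL₁ hL₂ |> fun h => show η.app D₁ = (c₁ ≪≫ c₂.symm).hom ≫
    ((DCoh.tensorBi (X := X)).obj L₂).map (dualMap a) by rw [h]; simp [c₁, c₂, η, D₁]]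
  exact injective_precomp_map_iff ((DCoh.tensorBi (X := X)).obj L₂) n
    (fun M => ((DCoh.tensorBi (X := X)).obj L₂).mapExt_bijective_of_preservesInjectiveObjects M G n)
    (dualMap a) (c₁ ≪≫ c₂.symm)

end RelLocDualLib
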