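import Groth.Agent.RelLocDualLib.Flasque
import Groth.Agent.DerLib.KInjUse
import Mathlib.Algebra.Homology.HomotopyCategory.HomComplexSingle
import Mathlib.Algebra.Homology.DerivedCategory.SingleTriangle

/-!
# Surjectivity on cohomology, on representatives
-/

set_option autoImplicit false
set_option linter.style.haveILetI false
set_option linter.unusedSectionVars false
set_option backward.isDefEq.respectTransparency false
set_option backward.isDefEq.respectTransparency.types false

noncomputable section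

universe w v u v' u'

open CategoryTheory CategoryTheory.Limits CochainComplex.HomComplex
open Groth.Agent.DerLib

namespace RelLocDualLib

section Classes

variable {C : Type u} [Category.{v} C] [Abelian C] [HasDerivedCategory.{w} C]
  {I J : CochainComplex C ℤ}

/-- The class of a cocycle with values in a complex. -/
def dcls (I : CochainComplex C ℤ) {P : C} (n : ℤ) (a : P ⟶ I.X n) (h : a ≫ I.d n (n + 1) = 0) :
    (DerivedCategory.singleFunctor C 0).obj P ⟶
      (shiftFunctor (DerivedCategory C) n).obj (DerivedCategory.Q.obj I) :=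
  (DerivedCategory.singleFunctorIsoCompQ C 0).hom.app P ≫
    DerivedCategory.Q.map (Cocycle.equivHomShift.symm (Cocycle.fromSingleMk a (zero_add n) (n + 1) rfl h)) ≫
      (DerivedCategory.Q.commShiftIso n).hom.app I

theorem dcls_map {P : C} (n : ℤ) (a : P ⟶ I.X n) (h : a ≫ I.d n (n + 1) = 0) (φ : I ⟶ J) :
    dcls J n (a ≫ φ.f n) (by rw [Category.assoc, φ.comm, reassoc_of% h, zero_comp]) =
      dcls I n a h ≫ (shiftFunctor (DerivedCategory C) n).map (DerivedCategory.Q.map φ) := by
  refine Eq.trans ?_ ((Category.assoc _ _ _).trans (congrArg ((DerivedCategory.singleFunctorIsoCompQ C 0).hom.app P ≫ ·)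
    (Category.assoc _ _ _))).symm
  refine congrArg (_ ≫ ·) ?_
  refine Eq.trans ?_ (congrArg (_ ≫ ·) ((DerivedCategory.Q.commShiftIso n).hom.naturality φ))
  refine Eq.trans ?_ (Category.assoc _ _ _)
  refine Eq.trans ?_ (congrArg (· ≫ _) (DerivedCategory.Q.map_comp _ _))
  refine congrArg (fun t => DerivedCategory.Q.map t ≫ _) ?_
  rw [Cocycle.fromSingleMk_postcomp]
  exact Cocycle.equivHomShift_symm_postcomp _ _

theorem dcls_precomp {P P' : C} (g : P' ⟶ P) (n : ℤ) (a : P ⟶ I.X n) (h : a ≫ I.d n (n + 1) = 0) :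
    dcls I n (g ≫ a) (by rw [Category.assoc, h, comp_zero]) =
      (DerivedCategory.singleFunctor C 0).map g ≫ dcls I n a h := by
  rw [dcls, dcls, Cocycle.fromSingleMk_precomp g a (zero_add n) (n + 1) rfl h,
    Cocycle.equivHomShift_symm_precomp, Functor.map_comp]
  refine (congrArg (_ ≫ ·) (Category.assoc _ _ _)).trans ?_
  exact (NatTrans.naturality_assoc (DerivedCategory.singleFunctorIsoCompQ C 0).hom g _).symm

theorem dcls_sub {P : C} (n : ℤ) (a b : P ⟶ I.X n) (h : a ≫ I.d n (n + 1) = 0) (h' : b ≫ I.d n (n + 1) = 0) :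
    dcls I n (a - b) (by rw [Preadditive.sub_comp, h, h', sub_zero]) = dcls I n a h - dcls I n b h' := by
  rw [dcls, dcls, dcls, Cocycle.fromSingleMk_sub a b (zero_add n) (n + 1) rfl h h', map_sub, Functor.map_sub,
    Preadditive.sub_comp, Preadditive.comp_sub]

variable [I.IsKInjective]

theorem dcls_eq_zero_iff {P : C} (n : ℤ) (a : P ⟶ I.X n) (h : a ≫ I.d n (n + 1) = 0) :
    dcls I n a h = 0 ↔ ∃ b : P ⟶ I.X (n - 1), b ≫ I.d (n - 1) n = a := by
  rw [← Cocycle.fromSingleMk_mem_coboundaries_iff a (zero_add n) (n + 1) rfl h (n - 1) (sub_add_cancel n 1),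
    ← CohomologyClass.toHom_mk_eq_zero_iff, CohomologyClass.toHom_mk, dcls, Preadditive.IsIso.comp_left_eq_zero,
    Preadditive.IsIso.comp_right_eq_zero]
  exact ⟨fun hh => KInjUse.quotient_eq_zero_of_Q hh, fun hh => KInjUse.Q_map_zero_of_quotient hh⟩

theorem dcls_surjective {P : C} (n : ℤ) (g : (DerivedCategory.singleFunctor C 0).obj P ⟶
    (shiftFunctor (DerivedCategory C) n).obj (DerivedCategory.Q.obj I)) :
    ∃ a h, dcls I n a h = g := by
  obtain ⟨f, hf⟩ := KInjUse.Q_map_surjective ((CochainComplex.singleFunctor C 0).obj P) (I⟦n⟧)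
    ((DerivedCategory.singleFunctorIsoCompQ C 0).inv.app P ≫ g ≫ (DerivedCategory.Q.commShiftIso n).inv.app I)
  obtain ⟨a, h, ha⟩ := Cocycle.fromSingleMk_surjective (Cocycle.equivHomShift f) n (zero_add n) (n + 1) rfl
  refine ⟨a, h, ?_⟩
  rw [dcls, ha, AddEquiv.symm_apply_apply, hf]
  simp

/-- Postcomposition is surjective iff cocycles lift up to coboundaries. -/
theorem surjective_postcomp_iff [J.IsKInjective] (P : C) (φ : I ⟶ J) (n : ℤ) :
    (Function.Surjective fun x : (DerivedCategory.singleFunctor C 0).obj P ⟶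
        (shiftFunctor (DerivedCategory C) n).obj (DerivedCategory.Q.obj I) =>
      x ≫ (shiftFunctor (DerivedCategory C) n).map (DerivedCategory.Q.map φ)) ↔
    ∀ z : P ⟶ J.X n, z ≫ J.d n (n + 1) = 0 → ∃ w : P ⟶ I.X n, w ≫ I.d n (n + 1) = 0 ∧
      ∃ b : P ⟶ J.X (n - 1), b ≫ J.d (n - 1) n = z - w ≫ φ.f n := by
  constructor
  · intro hs z hz
    obtain ⟨x, hx⟩ := hs (dcls J n z hz)
    obtain ⟨w, hw, rfl⟩ := dcls_surjective n x
    have hw' : (w ≫ φ.f n) ≫ J.d n (n + 1) = 0 := by rw [Category.assoc, φ.comm, reassoc_of% hw, zero_comp]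
    refine ⟨w, hw, (dcls_eq_zero_iff n (z - w ≫ φ.f n) (by rw [Preadditive.sub_comp, hz, hw', sub_zero])).1 ?_⟩
    rw [dcls_sub n z (w ≫ φ.f n) hz hw', dcls_map n w hw φ]
    exact sub_eq_zero.2 hx.symm
  · intro hz y
    obtain ⟨z, hz', rfl⟩ := dcls_surjective n y
    obtain ⟨w, hw, hb⟩ := hz z hz'
    have hw' : (w ≫ φ.f n) ≫ J.d n (n + 1) = 0 := by rw [Category.assoc, φ.comm, reassoc_of% hw, zero_comp]
    refine ⟨dcls I n w hw, (sub_eq_zero.1 ?_).symm⟩
    show dcls J n z hz' - dcls I n w hw ≫ _ = 0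
    rw [← dcls_map n w hw φ, ← dcls_sub n z (w ≫ φ.f n) hz' hw']
    exact (dcls_eq_zero_iff n _ _).2 hb

end Classes

section Homology

/-- Surjectivity on homology of complexes of abelian groups, on representatives. -/
theorem surjective_homologyMap_iff {K L : CochainComplex AddCommGrpCat.{u} ℤ} (φ : K ⟶ L) (n : ℤ) :
    Function.Surjective (HomologicalComplex.homologyMap φ n) ↔
      ∀ z : L.X n, L.d n (n + 1) z = 0 → ∃ w : K.X n, K.d n (n + 1) w = 0 ∧
        ∃ b : L.X (n - 1), L.d (n - 1) n b = z - φ.f n w := by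
  have hprev : (ComplexShape.up ℤ).prev n = n - 1 := by simp
  have hnext : (ComplexShape.up ℤ).next n = n + 1 := by simp
  -- cycles as elements
  have hcyc : ∀ (M : CochainComplex AddCommGrpCat.{u} ℤ) (z : M.X n), M.d n (n + 1) z = 0 →
      ∃ c : M.cycles n, M.iCycles n c = z := fun M z hz =>
    (ShortComplex.ab_exact_iff _).1 (ShortComplex.exact_of_f_is_kernel
      (ShortComplex.mk _ _ (M.iCycles_d n (n + 1))) (M.cyclesIsKernel n (n + 1) hnext)) z hz
  have hzero : ∀ c : L.cycles n, L.homologyπ n c = 0 ↔ ∃ b : L.X (n - 1), L.d (n - 1) n b = L.iCycles n c := by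
    intro c
    have hex := (ShortComplex.ab_exact_iff _).1 (ShortComplex.exact_of_g_is_cokernel
      (ShortComplex.mk _ _ (L.toCycles_comp_homologyπ (n - 1) n)) (L.homologyIsCokernel (n - 1) n hprev))
    have hi : Function.Injective (L.iCycles n) := (AddCommGrpCat.mono_iff_injective _).1 inferInstance
    constructor
    · intro h
      obtain ⟨b, hb⟩ := hex c h
      exact ⟨b, (ConcreteCategory.congr_hom (L.toCycles_i (n - 1) n) b).symm.trans (congrArg (L.iCycles n) hb)⟩
    · rintro ⟨b, hb⟩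
      rw [← hi ((ConcreteCategory.congr_hom (L.toCycles_i (n - 1) n) b).trans hb)]
      exact ConcreteCategory.congr_hom (L.toCycles_comp_homologyπ (n - 1) n) b
  have hπ : ∀ (M : CochainComplex AddCommGrpCat.{u} ℤ), Function.Surjective (M.homologyπ n) := fun M =>
    (AddCommGrpCat.epi_iff_surjective _).1 inferInstance
  constructor
  · intro hs z hz
    obtain ⟨c, rfl⟩ := hcyc L z hz
    obtain ⟨x, hx⟩ := hs (L.homologyπ n c)
    obtain ⟨d, rfl⟩ := hπ K x
    refine ⟨K.iCycles n d, ConcreteCategory.congr_hom (K.iCycles_d n (n + 1)) d, ?_⟩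
    have h1 : L.homologyπ n (c - HomologicalComplex.cyclesMap φ n d) = 0 := by
      rw [map_sub, sub_eq_zero, ← hx]
      exact ConcreteCategory.congr_hom (HomologicalComplex.homologyπ_naturality φ n) d
    obtain ⟨b, hb⟩ := (hzero _).1 h1
    refine ⟨b, hb.trans ?_⟩
    rw [map_sub]
    exact congrArg (L.iCycles n c - ·) (ConcreteCategory.congr_hom (HomologicalComplex.cyclesMap_i φ n) d)
  · intro h y
    obtain ⟨c, rfl⟩ := hπ L y
    obtain ⟨w, hw, b, hb⟩ := h (L.iCycles n c) (ConcreteCategory.congr_hom (L.iCycles_d n (n + 1)) c)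
    obtain ⟨d, rfl⟩ := hcyc K w hw
    refine ⟨K.homologyπ n d, ?_⟩
    have h1 : L.homologyπ n (c - HomologicalComplex.cyclesMap φ n d) = 0 :=
      (hzero _).2 ⟨b, hb.trans (by
        rw [map_sub]
        exact congrArg (L.iCycles n c - ·) (ConcreteCategory.congr_hom (HomologicalComplex.cyclesMap_i φ n) d).symm)⟩
    rw [map_sub, sub_eq_zero] at h1
    exact (ConcreteCategory.congr_hom (HomologicalComplex.homologyπ_naturality φ n) d).trans h1.symm

variable {C : Type u'} [Category.{v'} C] [Abelian C] [EnoughInjectives C] [HasDerivedCategory.{w} C]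
  (G : C ⥤ AddCommGrpCat.{u}) [G.Additive] [PreservesFiniteLimits G]

/-- For complexes of acyclic objects, surjectivity only depends on the morphism of the derived category. -/
theorem surjective_map_congr {K L K' L' : CochainComplex C ℤ} (a : ℤ) [K.IsStrictlyGE a] [L.IsStrictlyGE a]
    [K'.IsStrictlyGE a] [L'.IsStrictlyGE a] (hK : ∀ n, SpSeqLib.IsSAcyclic G (K.X n))
    (hL : ∀ n, SpSeqLib.IsSAcyclic G (L.X n)) (hK' : ∀ n, SpSeqLib.IsSAcyclic G (K'.X n))
    (hL' : ∀ n, SpSeqLib.IsSAcyclic G (L'.X n)) (h : K ⟶ K') (l : L ⟶ L')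
    (e : DerivedCategory.Q.obj K ≅ DerivedCategory.Q.obj L)
    (e' : DerivedCategory.Q.obj K' ≅ DerivedCategory.Q.obj L')
    (hsq : DerivedCategory.Q.map h ≫ e'.hom = e.hom ≫ DerivedCategory.Q.map l) (n : ℤ) :
    Function.Surjective (HomologicalComplex.homologyMap ((G.mapHomologicalComplex (ComplexShape.up ℤ)).map h) n) ↔
      Function.Surjective (HomologicalComplex.homologyMap ((G.mapHomologicalComplex (ComplexShape.up ℤ)).map l) n) := by
  obtain ⟨J, i, hi, hinj, hJ⟩ := CochainComplex.Plus.modelCategoryQuillen.exists_quasiIso_injective L a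
  obtain ⟨J', i', hi', hinj', hJ'⟩ := CochainComplex.Plus.modelCategoryQuillen.exists_quasiIso_injective L' a
  haveI := hi
  haveI := hJ
  haveI := hi'
  haveI := hJ'
  haveI : ∀ k, Injective (J.X k) := hinj
  haveI : ∀ k, Injective (J'.X k) := hinj'
  haveI : J.IsKInjective := CochainComplex.isKInjective_of_injective J a
  haveI : J'.IsKInjective := CochainComplex.isKInjective_of_injective J' a
  obtain ⟨φ, hφ⟩ := KInjUse.Q_map_surjective K J (e.hom ≫ DerivedCategory.Q.map i)
  obtain ⟨φ', hφ'⟩ := KInjUse.Q_map_surjective K' J' (e'.hom ≫ DerivedCategory.Q.map i')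
  obtain ⟨ψ, hψ⟩ := KInjUse.Q_map_surjective J J'
    (inv (DerivedCategory.Q.map i) ≫ DerivedCategory.Q.map l ≫ DerivedCategory.Q.map i')
  haveI : QuasiIso φ := (DerivedCategory.isIso_Q_map_iff_quasiIso (φ := φ)).1 (by rw [hφ]; infer_instance)
  haveI : QuasiIso φ' := (DerivedCategory.isIso_Q_map_iff_quasiIso (φ := φ')).1 (by rw [hφ']; infer_instance)
  let H := G.mapHomologicalComplex (ComplexShape.up ℤ)
  have hJac : ∀ k, SpSeqLib.IsSAcyclic G (J.X k) := fun k => SpSeqLib.isSAcyclic_of_injective _ _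
  have hJac' : ∀ k, SpSeqLib.IsSAcyclic G (J'.X k) := fun k => SpSeqLib.isSAcyclic_of_injective _ _
  haveI : QuasiIso (H.map φ) := SpSeqLib.quasiIso_map_of_isSAcyclic G φ a hK hJac
  haveI : QuasiIso (H.map φ') := SpSeqLib.quasiIso_map_of_isSAcyclic G φ' a hK' hJac'
  haveI : QuasiIso (H.map i) := SpSeqLib.quasiIso_map_of_isSAcyclic G i a hL hJac
  haveI : QuasiIso (H.map i') := SpSeqLib.quasiIso_map_of_isSAcyclic G i' a hL' hJac'
  have hom : ∀ {M : CochainComplex C ℤ} (p q : M ⟶ J'), DerivedCategory.Q.map p = DerivedCategory.Q.map q →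
      HomologicalComplex.homologyMap (H.map p) n = HomologicalComplex.homologyMap (H.map q) n := fun p q hpq => by
    have h0 := KInjUse.quotient_eq_zero_of_Q (f := p - q) (by rw [Functor.map_sub, hpq, sub_self])
    rw [Functor.map_sub, sub_eq_zero] at h0
    exact (G.mapHomotopy (HomotopyCategory.homotopyOfEq _ _ h0)).homologyMap_eq n
  have s₁ := hom (φ ≫ ψ) (h ≫ φ') (by
    rw [Functor.map_comp, Functor.map_comp, hφ, hφ', hψ, Category.assoc, IsIso.hom_inv_id_assoc, ← Category.assoc,
      ← Category.assoc, hsq])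
  have s₂ := hom (i ≫ ψ) (l ≫ i') (by
    rw [Functor.map_comp, Functor.map_comp, hψ, IsIso.hom_inv_id_assoc])
  rw [Functor.map_comp, Functor.map_comp, HomologicalComplex.homologyMap_comp, HomologicalComplex.homologyMap_comp] at s₁ s₂
  have bij : ∀ {M N : CochainComplex AddCommGrpCat.{u} ℤ} (p : M ⟶ N) [QuasiIso p],
      Function.Bijective (HomologicalComplex.homologyMap p n) := fun p _ =>
    (ConcreteCategory.isIso_iff_bijective _).1 inferInstance
  have key : ∀ {A B A' B' : AddCommGrpCat.{u}} (p : A ⟶ A') (q : B ⟶ B') (x : A ⟶ B) (y : A' ⟶ B'),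
      Function.Bijective p → Function.Bijective q → p ≫ y = x ≫ q →
      (Function.Surjective x ↔ Function.Surjective y) := by
    intro A B A' B' p q x y hp hq hc
    have hfun : y ∘ p = q ∘ x := funext fun t => ConcreteCategory.congr_hom hc t
    exact ⟨fun hx => (Function.Surjective.of_comp (hfun ▸ hq.2.comp hx)),
      fun hy => fun b => by
        obtain ⟨t, ht⟩ := hy (q b)
        obtain ⟨t, rfl⟩ := hp.2 t
        exact ⟨t, hq.1 ((congrFun hfun t).symm.trans ht)⟩⟩
  exact (key _ _ _ _ (bij (H.map φ)) (bij (H.map φ')) s₁).trans (key _ _ _ _ (bij (H.map i)) (bij (H.map i')) s₂).symm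

end Homology

end RelLocDualLib
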