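import Groth.Agent.SpSeqLib.AcyclicComplex
import Groth.Agent.SpSeqLib.CompExact
import Groth.Agent.CxOXLib.Sect
import Groth.Agent.CohLib.SuppPush
import Groth.Agent.CohLib.ExtInjective
import Groth.Agent.QRlimLib.Push
import Groth.Agent.DerLib.KInjUse

/-!
# Complexes of flasque sheaves compute cohomology with supports, also after direct image
-/

set_option autoImplicit false
set_option linter.style.haveILetI false
set_option linter.unusedSectionVars false
set_option backward.isDefEq.respectTransparency false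
set_option backward.isDefEq.respectTransparency.types false

noncomputable section

universe w v v' u u'

open CategoryTheory CategoryTheory.Limits AlgebraicGeometry TopologicalSpace Opposite
open Groth.Agent

attribute [local instance] HasDerivedCategory.standard

namespace RelLocDualLib

section Acyclic

variable {C : Type u} [Category.{v} C] [Abelian C] [EnoughInjectives C]
  {D : Type u'} [Category.{v'} D] [Abelian D] (G : C ⥤ D) [G.Additive] [PreservesFiniteLimits G]

/-- A left exact functor on bounded below complexes of acyclic objects only depends on the object of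
the derived category. -/
theorem nonempty_homology_map_iso {K L : CochainComplex C ℤ} (a b : ℤ) [K.IsStrictlyGE a]
    [L.IsStrictlyGE b] (hK : ∀ n, SpSeqLib.IsSAcyclic G (K.X n)) (hL : ∀ n, SpSeqLib.IsSAcyclic G (L.X n))
    (e : DerivedCategory.Q.obj K ≅ DerivedCategory.Q.obj L) (n : ℤ) :
    Nonempty (((G.mapHomologicalComplex (ComplexShape.up ℤ)).obj K).homology n ≅
      ((G.mapHomologicalComplex (ComplexShape.up ℤ)).obj L).homology n) := by
  let m := min a b
  haveI : K.IsStrictlyGE m := K.isStrictlyGE_of_ge m a (min_le_left _ _)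
  haveI : L.IsStrictlyGE m := L.isStrictlyGE_of_ge m b (min_le_right _ _)
  obtain ⟨J, i, hi, hinj, hJ⟩ := CochainComplex.Plus.modelCategoryQuillen.exists_quasiIso_injective L m
  haveI := hi
  haveI := hJ
  haveI : ∀ k, Injective (J.X k) := hinj
  haveI : J.IsKInjective := CochainComplex.isKInjective_of_injective J m
  let e' := e ≪≫ asIso (DerivedCategory.Q.map i)
  obtain ⟨φ, hφ⟩ := Groth.Agent.DerLib.KInjUse.Q_map_surjective K J e'.hom
  haveI : IsIso (DerivedCategory.Q.map φ) := hφ ▸ (inferInstance : IsIso e'.hom)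
  haveI : QuasiIso φ := (DerivedCategory.isIso_Q_map_iff_quasiIso (φ := φ)).1 inferInstance
  haveI : QuasiIso ((G.mapHomologicalComplex (ComplexShape.up ℤ)).map φ) :=
    SpSeqLib.quasiIso_map_of_isSAcyclic G φ m hK fun k => SpSeqLib.isSAcyclic_of_injective _ _
  haveI : QuasiIso ((G.mapHomologicalComplex (ComplexShape.up ℤ)).map i) :=
    SpSeqLib.quasiIso_map_of_isSAcyclic G i m hL fun k => SpSeqLib.isSAcyclic_of_injective _ _
  exact ⟨asIso (HomologicalComplex.homologyMap ((G.mapHomologicalComplex (ComplexShape.up ℤ)).map φ) n) ≪≫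
    (asIso (HomologicalComplex.homologyMap ((G.mapHomologicalComplex (ComplexShape.up ℤ)).map i) n)).symm⟩

end Acyclic

variable {T : TopCat.{u}}

/-- Maps out of `ℤ_V/ℤ_W`. -/
abbrev zqH {W V : Opens T} (h : W ≤ V) : CohTop.Ab T ⥤ AddCommGrpCat.{u} :=
  preadditiveCoyoneda.obj (op (LocCohZ.zq h))

theorem isSAcyclic_zqH {W V : Opens T} (h : W ≤ V) (F : CohTop.Ab T)
    [TopCat.Sheaf.IsFlasque (F : TopCat.Sheaf AddCommGrpCat.{u} T)] :
    SpSeqLib.IsSAcyclic (zqH h) F := by
  rw [SpSeqLib.isSAcyclic_iff]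
  intro q hq
  obtain ⟨p, rfl⟩ := Nat.exists_eq_succ_of_ne_zero hq.ne'
  obtain ⟨e⟩ := CohLib.nonempty_rightDerived_coyoneda_iso_ext (LocCohZ.zq h) F (p + 1)
  haveI : Subsingleton (Abelian.Ext.{u} (LocCohZ.zq h) F (p + 1)) :=
    CohLib.subsingleton_ext_zq_of_isFlasque h F p
  exact (AddCommGrpCat.isZero_of_subsingleton _).of_iso e

/-- Bounded below flasque complexes compute cohomology with supports. -/
theorem nonempty_homology_zqH_iso {W V : Opens T} (h : W ≤ V) (F : CohTop.Ab T)
    (K : CochainComplex (CohTop.Ab T) ℤ) (a : ℤ) [K.IsStrictlyGE a]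
    (hfl : ∀ n, TopCat.Sheaf.IsFlasque (K.X n : TopCat.Sheaf AddCommGrpCat.{u} T))
    (e : DerivedCategory.Q.obj K ≅ (DerivedCategory.singleFunctor (CohTop.Ab T) 0).obj F) (q : ℕ) :
    Nonempty ((((zqH h).mapHomologicalComplex (ComplexShape.up ℤ)).obj K).homology (q : ℤ) ≅
      AddCommGrpCat.of (LocCohZ.HZ F q h)) := by
  let R : InjectiveResolution F := injectiveResolution F
  obtain ⟨e₁⟩ := nonempty_homology_map_iso (zqH h) a 0 (L := R.cochainComplex)
    (fun n => @isSAcyclic_zqH _ _ _ h _ (hfl n)) (fun n => SpSeqLib.isSAcyclic_of_injective _ _)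
    (e ≪≫ (DerivedCategory.singleFunctorIsoCompQ (CohTop.Ab T) 0).app F ≪≫
      asIso (DerivedCategory.Q.map R.ι')) (q : ℤ)
  obtain ⟨e₂⟩ := CohLib.nonempty_homology_iso_ext_of_injective R
    (((zqH h).mapHomologicalComplex _).obj R.cocomplex) (fun _ => AddEquiv.refl _) (fun _ _ => rfl) q
  exact ⟨e₁ ≪≫ HomologicalComplex.homologyMapIso (SpSeqLib.mapExtendNatIso (zqH h) R.cocomplex) (q : ℤ) ≪≫
    HomologicalComplex.extendHomologyIso _ _ rfl ≪≫ e₂⟩

variable {X S : Scheme.{u}} (f : X ⟶ S) (P : S.Opens)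

/-- Sections with supports of direct images. -/
def zqPushIso :
    Scheme.Modules.pushforward f ⋙ QCohLib.toAbF S ⋙ zqH (T := S.carrier) (le_top : P ≤ ⊤) ≅
      QCohLib.toAbF X ⋙ zqH (T := X.carrier) (le_top : f ⁻¹ᵁ P ≤ ⊤) :=
  NatIso.ofComponents
    (fun M => (CohLib.zqPushEquiv f.base P ((QCohLib.toAbF X).obj M)).toAddCommGrpIso) fun φ => by
    ext t
    exact CohLib.zqPushEquiv_comp f.base P ((QCohLib.toAbF X).map φ) t

/-- Cohomology with supports is computed on `Rf_*` by any bounded below flasque representative. -/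
theorem nonempty_HZM_iso_of_rpush [DCoh.HasRpush f] (M : X.Modules) (L : CochainComplex S.Modules ℤ)
    (a : ℤ) [L.IsStrictlyGE a]
    (hfl : ∀ n, TopCat.Sheaf.IsFlasque (Coh.toAb (L.X n) : TopCat.Sheaf AddCommGrpCat.{u} S.carrier))
    (e : (DCoh.Rpush f).obj (DCoh.inD X M) ≅ DerivedCategory.Q.obj L) (q : ℕ) :
    Nonempty (AddCommGrpCat.of (LocCohZ.HZM X M q (f ⁻¹ᵁ P)) ≅
      (((QCohLib.toAbF S ⋙ zqH (T := S.carrier) (le_top : P ≤ ⊤)).mapHomologicalComplex
        (ComplexShape.up ℤ)).obj L).homology (q : ℤ)) := by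
  haveI : EnoughInjectives X.Modules := IsGrothendieckAbelian.enoughInjectives.{u}
  haveI : HasInjectiveResolutions X.Modules := inferInstance
  let I : InjectiveResolution M := injectiveResolution M
  let J := I.cochainComplex
  haveI : J.IsKInjective := CochainComplex.isKInjective_of_injective J 0
  let eJ : DCoh.inD X M ≅ DerivedCategory.Q.obj J :=
    (DerivedCategory.singleFunctorIsoCompQ X.Modules 0).app M ≪≫ asIso (DerivedCategory.Q.map I.ι')
  obtain ⟨ep⟩ := QRlimLib.nonempty_pushIso f J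
  have hflJ : ∀ n, TopCat.Sheaf.IsFlasque (Coh.toAb (J.X n) : TopCat.Sheaf AddCommGrpCat.{u} X.carrier) :=
    fun n => RpushLib.isFlasque_toAb_injective (J.X n)
  let TX := (QCohLib.toAbF X).mapHomologicalComplex (ComplexShape.up ℤ)
  let TS := (QCohLib.toAbF S).mapHomologicalComplex (ComplexShape.up ℤ)
  haveI : CochainComplex.IsStrictlyGE (TX.obj J) 0 := inferInstance
  haveI : CochainComplex.IsStrictlyGE (TS.obj (QRlimLib.pushC f J)) 0 := inferInstance
  haveI : CochainComplex.IsStrictlyGE (TS.obj L) a := inferInstance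
  obtain ⟨e₁⟩ := nonempty_homology_zqH_iso (T := X.carrier) (le_top : f ⁻¹ᵁ P ≤ ⊤) (Coh.toAb M) (TX.obj J) 0 hflJ
    ((((QCohLib.toAbF X).mapDerivedCategoryFactors).app J).symm ≪≫
      (QCohLib.toAbF X).mapDerivedCategory.mapIso eJ.symm ≪≫
      ((QCohLib.toAbF X).mapDerivedCategorySingleFunctor 0).app M) q
  obtain ⟨e₂⟩ := nonempty_homology_map_iso (zqH (T := S.carrier) (le_top : P ≤ ⊤)) 0 a
    (K := TS.obj (QRlimLib.pushC f J)) (L := TS.obj L)
    (fun n => by
      haveI := hflJ n
      haveI : TopCat.Sheaf.IsFlasque ((CohTop.push f.base).obj (Coh.toAb (J.X n)) :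
          TopCat.Sheaf AddCommGrpCat.{u} S.carrier) :=
        TopCat.Presheaf.IsFlasque.pushforward_isFlasque (F := (Coh.toAb (J.X n)).obj) f.base
      exact isSAcyclic_zqH _ ((CohTop.push f.base).obj (Coh.toAb (J.X n))))
    (fun n => @isSAcyclic_zqH _ _ _ _ _ (hfl n))
    ((((QCohLib.toAbF S).mapDerivedCategoryFactors).app (QRlimLib.pushC f J)).symm ≪≫
      (QCohLib.toAbF S).mapDerivedCategory.mapIso (ep.symm ≪≫ (DCoh.Rpush f).mapIso eJ.symm ≪≫ e) ≪≫
      ((QCohLib.toAbF S).mapDerivedCategoryFactors).app L) (q : ℤ)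
  exact ⟨e₁.symm ≪≫ ShortComplex.homologyMapIso ((J.sc (q : ℤ)).mapNatIso (zqPushIso f P)).symm ≪≫ e₂⟩

end RelLocDualLib
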