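import Groth.Agent.RelLocDualLib.Flasque
import Groth.Agent.InjModLib.TildeInj
import Groth.Agent.LcCxLib.Bridge
import Groth.Agent.KoszOrthLib.Affine
import Groth.Agent.KoszLib.Spec

/-!
# Cohomology with supports in the preimage of a closed subset of an affine base
-/

set_option autoImplicit false
set_option linter.style.haveILetI false
set_option linter.unusedSectionVars false
set_option backward.isDefEq.respectTransparency false
set_option backward.isDefEq.respectTransparency.types false
set_option maxHeartbeats 1000000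

noncomputable section

universe u

open CategoryTheory CategoryTheory.Limits AlgebraicGeometry TopologicalSpace Opposite
open Groth.Agent LcFinLib

attribute [local instance] HasDerivedCategory.standard

namespace RelLocDualLib

variable {A : Type u} [CommRing A] (T : Set (PrimeSpectrum A))

/-- The elements with support in `T`, as abelian groups. -/
abbrev gamAb : ModuleCat.{u} A ⥤ AddCommGrpCat.{u} := gamF T ⋙ forget₂ _ AddCommGrpCat.{u}

instance : (gamAb T).Additive where
  map_add {M N f g} := by ext x; exact Subtype.ext rfl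

variable {T} (P : (Spec (CommRingCat.of A)).Opens)

theorem toStalk_eq_zero_iff {R : CommRingCat.{u}} (N : ModuleCat.{u} R) (p : PrimeSpectrum R) (x : N) :
    (tilde.toStalk N p).hom x = 0 ↔ ∃ s ∉ p.asIdeal, s • x = 0 := by
  constructor
  · intro h
    obtain ⟨s, hs⟩ := (IsLocalizedModule.eq_zero_iff p.asIdeal.primeCompl _).1 h
    exact ⟨s.1, s.2, hs⟩
  · rintro ⟨s, hs, h⟩
    exact (IsLocalizedModule.eq_zero_iff p.asIdeal.primeCompl _).2 ⟨⟨s, hs⟩, h⟩

theorem res_secEquiv_eq_zero_iff {R : CommRingCat.{u}} {T : Set (PrimeSpectrum R)} (P : (Spec R).Opens)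
    (hP : ∀ p : PrimeSpectrum R, (p : Spec R) ∈ P ↔ p ∉ T) (N : ModuleCat.{u} R) (x : N) :
    (tilde N).presheaf.map (homOfLE (le_top : P ≤ ⊤)).op (KoszLib.secEquiv' N x) = 0 ↔ x ∈ gam T N := by
  have hgerm : ∀ p : Spec R, (tilde N).presheaf.germ ⊤ p trivial (KoszLib.secEquiv' N x) =
      (tilde.toStalk N p).hom x := fun p => rfl
  rw [mem_gam_iff]
  constructor
  · intro h q hq
    refine (toStalk_eq_zero_iff N q x).1 ((hgerm q).symm.trans ?_)
    have h2 := congrArg ((tilde N).presheaf.germ P (q : Spec R) ((hP q).2 hq)) h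
    exact ((TopCat.Presheaf.germ_res_apply _ _ _ _ _).symm.trans h2).trans (map_zero _)
  · intro h
    refine ProjFormLib.section_ext (M := tilde N) _ _ fun y hy => ?_
    refine (TopCat.Presheaf.germ_res_apply _ _ _ _ _).trans
      (((hgerm y).trans ((toStalk_eq_zero_iff N y x).2 (h y ((hP y).1 hy)))).trans ?_)
    exact (map_zero ((tilde N).presheaf.germ P y hy).hom).symm

/-- Sections of `Ñ` supported in `T` are the elements of `N` supported in `T`. -/
def sectTildeEquiv (hP : ∀ p : PrimeSpectrum A, (p : Spec (CommRingCat.of A)) ∈ P ↔ p ∉ T) (N : ModuleCat.{u} A) :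
    gam T N ≃+ LocCohZ.sectZ (X := (Spec (CommRingCat.of A)).carrier)
      (Coh.toAb (tilde (R := CommRingCat.of A) N)) (le_top : P ≤ ⊤) where
  toFun x := ⟨KoszLib.secEquiv' (R := CommRingCat.of A) N x.1, (res_secEquiv_eq_zero_iff (R := CommRingCat.of A) P hP N x.1).2 x.2⟩
  invFun s := ⟨(KoszLib.secEquiv' (R := CommRingCat.of A) N).symm s.1, (res_secEquiv_eq_zero_iff (R := CommRingCat.of A) P hP N _).1 (by
    rw [AddEquiv.apply_symm_apply]
    exact s.2)⟩
  left_inv x := Subtype.ext ((KoszLib.secEquiv' (R := CommRingCat.of A) N).symm_apply_apply x.1)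
  right_inv s := Subtype.ext ((KoszLib.secEquiv' (R := CommRingCat.of A) N).apply_symm_apply s.1)
  map_add' x y := Subtype.ext (map_add (KoszLib.secEquiv' (R := CommRingCat.of A) N) x.1 y.1)

/-- `Γ_T` as sections with supports. -/
def gamSectIso (hP : ∀ p : PrimeSpectrum A, (p : Spec (CommRingCat.of A)) ∈ P ↔ p ∉ T) :
    tilde.functor (CommRingCat.of A) ⋙ QCohLib.toAbF (Spec (CommRingCat.of A)) ⋙
        zqH (T := (Spec (CommRingCat.of A)).carrier) (le_top : P ≤ ⊤) ≅ gamAb T :=
  NatIso.ofComponents (fun N => ((CohLib.zqHom _ _).trans (sectTildeEquiv P hP N).symm).toAddCommGrpIso)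
    fun {N N'} φ => by
      ext t
      show (sectTildeEquiv P hP N').symm (CohLib.zqHom _ _ (t ≫ _)) =
        ((gamF T).map φ).hom ((sectTildeEquiv P hP N).symm (CohLib.zqHom _ _ t))
      apply (sectTildeEquiv P hP N').injective
      rw [AddEquiv.apply_symm_apply]
      obtain ⟨x, hx⟩ := (sectTildeEquiv P hP N).surjective (CohLib.zqHom _ _ t)
      rw [← hx, AddEquiv.symm_apply_apply]
      apply Subtype.ext
      refine (CohLib.zqHom_comp _ _ t).trans ?_
      refine (congrArg (((QCohLib.toAbF (Spec (CommRingCat.of A))).map ((tilde.functor (CommRingCat.of A)).map φ)).hom.app (op ⊤))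
        (congrArg Subtype.val hx.symm)).trans ?_
      exact congr($(tilde.toOpen_map_app (R := CommRingCat.of A) φ ⊤).hom x.1)

variable (T) (E : CochainComplex (ModuleCat.{u} A) ℤ)

/-- The elementary description of cohomology with supports in terms of homology. -/
theorem nonempty_homology_gamAb_equiv (i : ℤ) :
    Nonempty ((((gamAb T).mapHomologicalComplex (ComplexShape.up ℤ)).obj E).homology i ≃+ LcCxLib.HT T E i) := by
  let G := gamAb T
  let S : ShortComplex AddCommGrpCat.{u} := ShortComplex.mk (G.map (E.d (i - 1) i)) (G.map (E.d i (i + 1)))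
    (by rw [← G.map_comp, E.d_comp_d, G.map_zero])
  let e : ((G.mapHomologicalComplex (ComplexShape.up ℤ)).obj E).sc i ≅ S :=
    ((G.mapHomologicalComplex (ComplexShape.up ℤ)).obj E).isoSc' (i - 1) i (i + 1) (by simp) (by simp)
  let φ : AddMonoidHom.ker S.g.hom →+ LcCxLib.HT T E i :=
    AddMonoidHom.mk' (fun x => Submodule.Quotient.mk
      ⟨⟨(x.1 : gam T (E.X i)).1, show (E.d i (i + 1)).hom _ = 0 from congrArg Subtype.val x.2⟩,
        (LcCxLib.mem_gam_cyc T E).2 (x.1 : gam T (E.X i)).2⟩)
      fun x y => rfl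
  have hsurj : Function.Surjective φ := fun c => by
    obtain ⟨z, rfl⟩ := Submodule.Quotient.mk_surjective _ c
    exact ⟨⟨(⟨z.1.1, (LcCxLib.mem_gam_cyc T E).1 z.2⟩ : gam T (E.X i)), Subtype.ext z.1.2⟩, rfl⟩
  have hker : φ.ker = (S.abToCycles).range := by
    ext x
    rw [AddMonoidHom.mem_ker]
    refine (Submodule.Quotient.mk_eq_zero _).trans ⟨?_, ?_⟩
    · rintro ⟨w, hw⟩
      refine ⟨w, Subtype.ext (Subtype.ext ?_)⟩
      exact congrArg (fun t : gam T (LcCxLib.cyc E i) => t.1.1) hw
    · rintro ⟨w, rfl⟩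
      exact ⟨w, Subtype.ext (Subtype.ext rfl)⟩
  exact ⟨((ShortComplex.homologyMapIso e).trans S.abHomologyIso).addCommGroupIsoToAddEquiv.trans
    ((QuotientAddGroup.quotientAddEquivOfEq hker.symm).trans (QuotientAddGroup.quotientKerEquivOfSurjective φ hsurj))⟩

variable [IsNoetherianRing A] [PreservesFiniteLimits (tilde.functor (CommRingCat.of A))]

/-- Cohomology with supports over the preimage of `V(I)` is local cohomology of `RΓ`. -/
theorem nonempty_HZM_equiv_HDI {X : Scheme.{u}} (f : X ⟶ Spec (CommRingCat.of A)) [DCoh.HasRpush f]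
    (M : X.Modules) (K : Dual.D A) (a : ℤ) (hKa : ∀ i, i < a → Subsingleton (Dual.HD A K i))
    (eK : (DCoh.Rpush f).obj (DCoh.inD X M) ≅ (DCoh.tildeD (CommRingCat.of A)).obj K) (I : Ideal A) (q : ℕ) :
    Nonempty (LocCohZ.HZM X M q (f ⁻¹ᵁ (LocCoh.puncturedOpen A I)) ≃+ Dual2.HDI A I K q) := by
  let S := Spec (CommRingCat.of A)
  let T := PrimeSpectrum.zeroLocus (I : Set A)
  let P : S.Opens := LocCoh.puncturedOpen A I
  obtain ⟨E, hE, hinj, hEK, ⟨eE⟩⟩ := LcCxLib.exists_model K a hKa
  haveI := hE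
  haveI := hEK
  let tl := tilde.functor (CommRingCat.of A)
  let L : CochainComplex S.Modules ℤ := (tl.mapHomologicalComplex (ComplexShape.up ℤ)).obj E
  haveI : CochainComplex.IsStrictlyGE L a := inferInstanceAs (CochainComplex.IsStrictlyGE ((tl.mapHomologicalComplex _).obj E) a)
  obtain ⟨e₁⟩ := nonempty_HZM_iso_of_rpush f P M L a
    (fun n => by
      haveI := Module.injective_module_of_injective_object A (E.X n) (inj := hinj n)
      haveI : Injective (L.X n) := InjModLib.injective_tilde (R := CommRingCat.of A) (E.X n)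
      exact RpushLib.isFlasque_toAb_injective (L.X n))
    (eK ≪≫ (DCoh.tildeD (CommRingCat.of A)).mapIso eE.symm ≪≫ (tl.mapDerivedCategoryFactors).app E) q
  obtain ⟨e₂⟩ := nonempty_homology_gamAb_equiv T E (q : ℤ)
  obtain ⟨e₃⟩ := LcCxLib.exists_HDI_equiv eE I (q : ℤ)
  exact ⟨((e₁ ≪≫ ShortComplex.homologyMapIso ((E.sc (q : ℤ)).mapNatIso
    (gamSectIso P (T := T) fun p => Iff.rfl))).addCommGroupIsoToAddEquiv.trans e₂).trans
      e₃.toAddEquiv.symm⟩

end RelLocDualLib
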