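import Groth.Agent.RelLocDualLib.Gamma
import Groth.Agent.RelLocDualLib.Classes
import Groth.Agent.ShriekLib.Indep
import Groth.Agent.LcCxLib.DualityUnb

/-!
# Surjectivity of maps of cohomology with supports
-/

set_option autoImplicit false
set_option linter.style.haveILetI false
set_option linter.unusedSectionVars false
set_option backward.isDefEq.respectTransparency false
set_option backward.isDefEq.respectTransparency.types false
set_option maxHeartbeats 1000000
set_option synthInstance.maxHeartbeats 100000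

noncomputable section

universe u

open CategoryTheory CategoryTheory.Limits AlgebraicGeometry TopologicalSpace Opposite Abelian
open Groth.Agent LcFinLib
open Groth.Agent.DerLib

attribute [local instance] HasDerivedCategory.standard

namespace RelLocDualLib

section Ext

variable {C : Type (u + 1)} [Category.{u} C] [Abelian C] [HasExt.{u} C]

/-- Postcomposition on `Ext` and on morphisms of the derived category. -/
theorem surjective_ext_postcomp_iff {P F F' : C} (ψ : F ⟶ F') (q : ℕ) {R R' : CochainComplex C ℤ}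
    (e : (DerivedCategory.singleFunctor C 0).obj F ≅ DerivedCategory.Q.obj R)
    (e' : (DerivedCategory.singleFunctor C 0).obj F' ≅ DerivedCategory.Q.obj R') (h : R ⟶ R')
    (hsq : (DerivedCategory.singleFunctor C 0).map ψ ≫ e'.hom = e.hom ≫ DerivedCategory.Q.map h) :
    (Function.Surjective fun x : Ext P F q => x.comp (Ext.mk₀ ψ) (add_zero q)) ↔
      Function.Surjective fun x : (DerivedCategory.singleFunctor C 0).obj P ⟶
          (shiftFunctor (DerivedCategory C) (q : ℤ)).obj (DerivedCategory.Q.obj R) =>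
        x ≫ (shiftFunctor (DerivedCategory C) (q : ℤ)).map (DerivedCategory.Q.map h) := by
  let u₁ := (Ext.homAddEquiv (X := P) (Y := F) (n := q)).toEquiv.trans
    ((Iso.refl _).homCongr ((shiftFunctor (DerivedCategory C) (q : ℤ)).mapIso e))
  let u₂ := (Ext.homAddEquiv (X := P) (Y := F') (n := q)).toEquiv.trans
    ((Iso.refl _).homCongr ((shiftFunctor (DerivedCategory C) (q : ℤ)).mapIso e'))
  have hc : ∀ x : Ext P F q, u₂ (x.comp (Ext.mk₀ ψ) (add_zero q)) =
      u₁ x ≫ (shiftFunctor (DerivedCategory C) (q : ℤ)).map (DerivedCategory.Q.map h) := fun x => by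
    simp only [u₁, u₂, Equiv.trans_apply, AddEquiv.toEquiv_eq_coe, EquivLike.coe_coe, Iso.homCongr_apply,
      Iso.refl_inv, Category.id_comp, Ext.homAddEquiv_apply, Functor.mapIso_hom]
    rw [Ext.comp_hom, Ext.mk₀_hom, ShiftedHom.comp_mk₀, Category.assoc, Category.assoc, ← Functor.map_comp,
      ← Functor.map_comp, hsq]
  constructor
  · intro hs y
    obtain ⟨z, rfl⟩ := u₂.surjective y
    obtain ⟨x, rfl⟩ := hs z
    exact ⟨u₁ x, (hc x).symm⟩
  · intro hs z
    obtain ⟨y, hy⟩ := hs (u₂ z)
    obtain ⟨x, rfl⟩ := u₁.surjective y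
    exact ⟨x, u₂.injective ((hc x).trans hy)⟩

end Ext

section Sup

variable {T : TopCat.{u}}

/-- Surjectivity on cohomology with supports, on injective complexes. -/
theorem surjective_HZ_map_iff {W V : Opens T} (h : W ≤ V) {F F' : CohTop.Ab T} (ψ : F ⟶ F') (q : ℕ)
    {R R' : CochainComplex (CohTop.Ab T) ℤ} [R.IsKInjective] [R'.IsKInjective]
    (e : (DerivedCategory.singleFunctor (CohTop.Ab T) 0).obj F ≅ DerivedCategory.Q.obj R)
    (e' : (DerivedCategory.singleFunctor (CohTop.Ab T) 0).obj F' ≅ DerivedCategory.Q.obj R') (r : R ⟶ R')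
    (hsq : (DerivedCategory.singleFunctor (CohTop.Ab T) 0).map ψ ≫ e'.hom = e.hom ≫ DerivedCategory.Q.map r) :
    Function.Surjective (LocCohZ.map ψ q h) ↔
      Function.Surjective (HomologicalComplex.homologyMap
        (((zqH h).mapHomologicalComplex (ComplexShape.up ℤ)).map r) (q : ℤ)) := by
  refine (surjective_ext_postcomp_iff ψ q e e' r hsq).trans
    ((surjective_postcomp_iff (LocCohZ.zq h) r (q : ℤ)).trans ?_)
  rw [surjective_homologyMap_iff]
  exact Iff.rfl

end Sup

section Upstairs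

variable {X : Scheme.{u}}

/-- Surjectivity on cohomology with supports, on resolutions by flasque modules. -/
theorem surjective_HZ_toAb_iff {W V : X.Opens} (h : W ≤ V) {M M' : X.Modules} (φ : M ⟶ M') (q : ℕ)
    {J J' : CochainComplex X.Modules ℤ} [J.IsStrictlyGE 0] [J'.IsStrictlyGE 0]
    (hJ : ∀ n, TopCat.Sheaf.IsFlasque (Coh.toAb (J.X n) : TopCat.Sheaf AddCommGrpCat.{u} X.carrier))
    (hJ' : ∀ n, TopCat.Sheaf.IsFlasque (Coh.toAb (J'.X n) : TopCat.Sheaf AddCommGrpCat.{u} X.carrier))
    (eJ : (DerivedCategory.singleFunctor X.Modules 0).obj M ≅ DerivedCategory.Q.obj J)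
    (eJ' : (DerivedCategory.singleFunctor X.Modules 0).obj M' ≅ DerivedCategory.Q.obj J') (j : J ⟶ J')
    (hj : (DerivedCategory.singleFunctor X.Modules 0).map φ ≫ eJ'.hom = eJ.hom ≫ DerivedCategory.Q.map j) :
    Function.Surjective (LocCohZ.map (X := X.carrier) ((QCohLib.toAbF X).map φ) q h) ↔
      Function.Surjective (HomologicalComplex.homologyMap
        (((zqH (T := X.carrier) h).mapHomologicalComplex (ComplexShape.up ℤ)).map
          (((QCohLib.toAbF X).mapHomologicalComplex (ComplexShape.up ℤ)).map j)) (q : ℤ)) := by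
  let DA := DerivedCategory.singleFunctor (CohTop.Ab X.carrier) 0
  let FX := (QCohLib.toAbF X).mapDerivedCategory
  let TX := (QCohLib.toAbF X).mapHomologicalComplex (ComplexShape.up ℤ)
  let αX := (QCohLib.toAbF X).mapDerivedCategoryFactors
  let σX := (QCohLib.toAbF X).mapDerivedCategorySingleFunctor 0
  let R := (injectiveResolution (Coh.toAb M : CohTop.Ab X.carrier)).cochainComplex
  let R' := (injectiveResolution (Coh.toAb M' : CohTop.Ab X.carrier)).cochainComplex
  haveI : R.IsKInjective := CochainComplex.isKInjective_of_injective R 0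
  haveI : R'.IsKInjective := CochainComplex.isKInjective_of_injective R' 0
  let eR : DA.obj (Coh.toAb M) ≅ DerivedCategory.Q.obj R :=
    (DerivedCategory.singleFunctorIsoCompQ (CohTop.Ab X.carrier) 0).app _ ≪≫
      asIso (DerivedCategory.Q.map (injectiveResolution (Coh.toAb M : CohTop.Ab X.carrier)).ι')
  let eR' : DA.obj (Coh.toAb M') ≅ DerivedCategory.Q.obj R' :=
    (DerivedCategory.singleFunctorIsoCompQ (CohTop.Ab X.carrier) 0).app _ ≪≫
      asIso (DerivedCategory.Q.map (injectiveResolution (Coh.toAb M' : CohTop.Ab X.carrier)).ι')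
  obtain ⟨r, hr⟩ := KInjUse.Q_map_surjective R R' (eR.inv ≫ DA.map ((QCohLib.toAbF X).map φ) ≫ eR'.hom)
  refine (surjective_HZ_map_iff (T := X.carrier) h ((QCohLib.toAbF X).map φ) q eR eR' r
    (by rw [hr, Iso.hom_inv_id_assoc])).trans ?_
  haveI : CochainComplex.IsStrictlyGE (TX.obj J) 0 := inferInstance
  haveI : CochainComplex.IsStrictlyGE (TX.obj J') 0 := inferInstance
  refine surjective_map_congr (zqH (T := X.carrier) h) 0
    (L := TX.obj J) (L' := TX.obj J')
    (fun n => SpSeqLib.isSAcyclic_of_injective _ _) (fun n => @isSAcyclic_zqH _ _ _ _ _ (hJ n))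
    (fun n => SpSeqLib.isSAcyclic_of_injective _ _) (fun n => @isSAcyclic_zqH _ _ _ _ _ (hJ' n))
    r (TX.map j) (eR.symm ≪≫ (σX.app M).symm ≪≫ FX.mapIso eJ ≪≫ αX.app J)
    (eR'.symm ≪≫ (σX.app M').symm ≪≫ FX.mapIso eJ' ≪≫ αX.app J') ?_ (q : ℤ)
  show DerivedCategory.Q.map r ≫ eR'.inv ≫ σX.inv.app M' ≫ FX.map eJ'.hom ≫ αX.hom.app J' =
    (eR.inv ≫ σX.inv.app M ≫ FX.map eJ.hom ≫ αX.hom.app J) ≫ DerivedCategory.Q.map (TX.map j)
  have n1 : DA.map ((QCohLib.toAbF X).map φ) ≫ σX.inv.app M' =
      σX.inv.app M ≫ FX.map ((DerivedCategory.singleFunctor X.Modules 0).map φ) :=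
    σX.inv.naturality φ
  have n2 : FX.map (DerivedCategory.Q.map j) ≫ αX.hom.app J' = αX.hom.app J ≫ DerivedCategory.Q.map (TX.map j) :=
    αX.hom.naturality j
  rw [hr]
  simp only [Category.assoc, Iso.hom_inv_id_assoc]
  rw [reassoc_of% n1, ← n2, ← Functor.map_comp_assoc, hj, Functor.map_comp_assoc]

end Upstairs

variable {A : Type u} [CommRing A]
  {X : Scheme.{u}} (f : X ⟶ Spec (CommRingCat.of A))

/-- Surjectivity on sections with supports, after pushing forward. -/
theorem surjective_zqH_push_iff (P : (Spec (CommRingCat.of A)).Opens) {J J' : CochainComplex X.Modules ℤ}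
    (j : J ⟶ J') (q : ℤ) :
    Function.Surjective (HomologicalComplex.homologyMap
        (((zqH (T := X.carrier) (le_top : f ⁻¹ᵁ P ≤ ⊤)).mapHomologicalComplex (ComplexShape.up ℤ)).map
          (((QCohLib.toAbF X).mapHomologicalComplex (ComplexShape.up ℤ)).map j)) q) ↔
      Function.Surjective (HomologicalComplex.homologyMap
        (((zqH (T := (Spec (CommRingCat.of A)).carrier) (le_top : P ≤ ⊤)).mapHomologicalComplex (ComplexShape.up ℤ)).map
          (((QCohLib.toAbF (Spec (CommRingCat.of A))).mapHomologicalComplex (ComplexShape.up ℤ)).map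
            (((Scheme.Modules.pushforward f).mapHomologicalComplex _).map j))) q) := by
  let S := Spec (CommRingCat.of A)
  let Gd := zqH (T := S.carrier) (le_top : P ≤ ⊤)
  let ν := NatTrans.mapHomologicalComplex (zqPushIso f P).hom (ComplexShape.up ℤ)
  let pj := ((Scheme.Modules.pushforward f).mapHomologicalComplex (ComplexShape.up ℤ)).map j
  let TS := (QCohLib.toAbF S).mapHomologicalComplex (ComplexShape.up ℤ)
  have hn : (Gd.mapHomologicalComplex (ComplexShape.up ℤ)).map (TS.map pj) ≫ ν.app J' = ν.app J ≫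
      ((zqH (T := X.carrier) (le_top : f ⁻¹ᵁ P ≤ ⊤)).mapHomologicalComplex (ComplexShape.up ℤ)).map
        (((QCohLib.toAbF X).mapHomologicalComplex (ComplexShape.up ℤ)).map j) :=
    HomologicalComplex.hom_ext _ _ fun m => (zqPushIso f P).hom.naturality (j.f m)
  have hν : ∀ L : CochainComplex X.Modules ℤ, Function.Bijective (HomologicalComplex.homologyMap (ν.app L) q) :=
    fun L => by
      haveI : ∀ m, IsIso ((ν.app L).f m) := fun m => inferInstanceAs (IsIso ((zqPushIso f P).hom.app (L.X m)))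
      haveI : IsIso (ν.app L) := HomologicalComplex.Hom.isIso_of_components _
      exact (ConcreteCategory.isIso_iff_bijective _).1 inferInstance
  have hh := congrArg (fun x => HomologicalComplex.homologyMap x q) hn
  simp only [HomologicalComplex.homologyMap_comp] at hh
  constructor
  · intro hs y
    obtain ⟨x, hx⟩ := hs ((HomologicalComplex.homologyMap (ν.app J') q) y)
    obtain ⟨x, rfl⟩ := (hν J).2 x
    exact ⟨x, (hν J').1 ((ConcreteCategory.congr_hom hh x).trans hx)⟩
  · intro hs y
    obtain ⟨z, rfl⟩ := (hν J').2 y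
    obtain ⟨x, rfl⟩ := hs z
    exact ⟨_, (ConcreteCategory.congr_hom hh x).symm⟩

variable [IsNoetherianRing A] [PreservesFiniteLimits (tilde.functor (CommRingCat.of A))]

/-- Surjectivity on sections with supports of flasque complexes on an affine scheme, on injective models. -/
theorem surjective_zqH_tilde_iff (I : Ideal A) {pp pp' : CochainComplex (Spec (CommRingCat.of A)).Modules ℤ}
    [pp.IsStrictlyGE 0] [pp'.IsStrictlyGE 0]
    (hp : ∀ n, SpSeqLib.IsSAcyclic (zqH (T := (Spec (CommRingCat.of A)).carrier)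
      (le_top : LocCoh.puncturedOpen A I ≤ ⊤)) (Coh.toAb (pp.X n)))
    (hp' : ∀ n, SpSeqLib.IsSAcyclic (zqH (T := (Spec (CommRingCat.of A)).carrier)
      (le_top : LocCoh.puncturedOpen A I ≤ ⊤)) (Coh.toAb (pp'.X n)))
    {E E' : CochainComplex (ModuleCat.{u} A) ℤ} (b : ℤ) [E.IsStrictlyGE b] [E'.IsStrictlyGE b]
    (hE : ∀ n, Injective (E.X n)) (hE' : ∀ n, Injective (E'.X n)) (pj : pp ⟶ pp') (g : E ⟶ E')
    (cS : DerivedCategory.Q.obj pp ≅
      DerivedCategory.Q.obj (((tilde.functor (CommRingCat.of A)).mapHomologicalComplex _).obj E))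
    (cS' : DerivedCategory.Q.obj pp' ≅
      DerivedCategory.Q.obj (((tilde.functor (CommRingCat.of A)).mapHomologicalComplex _).obj E'))
    (hcS : DerivedCategory.Q.map pj ≫ cS'.hom = cS.hom ≫
      DerivedCategory.Q.map (((tilde.functor (CommRingCat.of A)).mapHomologicalComplex _).map g)) (q : ℤ) :
    Function.Surjective (HomologicalComplex.homologyMap
        (((zqH (T := (Spec (CommRingCat.of A)).carrier) (le_top : LocCoh.puncturedOpen A I ≤ ⊤)).mapHomologicalComplex
          (ComplexShape.up ℤ)).map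
          (((QCohLib.toAbF (Spec (CommRingCat.of A))).mapHomologicalComplex (ComplexShape.up ℤ)).map pj)) q) ↔
      Function.Surjective (HomologicalComplex.homologyMap
        (((gamAb (PrimeSpectrum.zeroLocus (I : Set A))).mapHomologicalComplex (ComplexShape.up ℤ)).map g) q) := by
  let S := Spec (CommRingCat.of A)
  let P : S.Opens := LocCoh.puncturedOpen A I
  let Gd := zqH (T := S.carrier) (le_top : P ≤ ⊤)
  let TS := (QCohLib.toAbF S).mapHomologicalComplex (ComplexShape.up ℤ)
  let FS := (QCohLib.toAbF S).mapDerivedCategory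
  let αS := (QCohLib.toAbF S).mapDerivedCategoryFactors
  let tl := tilde.functor (CommRingCat.of A)
  let L : CochainComplex S.Modules ℤ := (tl.mapHomologicalComplex _).obj E
  let L' : CochainComplex S.Modules ℤ := (tl.mapHomologicalComplex _).obj E'
  let l : L ⟶ L' := (tl.mapHomologicalComplex _).map g
  let m : ℤ := min 0 b
  haveI : CochainComplex.IsStrictlyGE (TS.obj pp) 0 := inferInstance
  haveI : CochainComplex.IsStrictlyGE (TS.obj pp') 0 := inferInstance
  haveI : CochainComplex.IsStrictlyGE L b :=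
    inferInstanceAs (CochainComplex.IsStrictlyGE ((tl.mapHomologicalComplex _).obj E) b)
  haveI : CochainComplex.IsStrictlyGE L' b :=
    inferInstanceAs (CochainComplex.IsStrictlyGE ((tl.mapHomologicalComplex _).obj E') b)
  haveI : CochainComplex.IsStrictlyGE (TS.obj pp) m := CochainComplex.isStrictlyGE_of_ge _ m 0 (min_le_left _ _)
  haveI : CochainComplex.IsStrictlyGE (TS.obj pp') m := CochainComplex.isStrictlyGE_of_ge _ m 0 (min_le_left _ _)
  haveI : CochainComplex.IsStrictlyGE (TS.obj L) b := inferInstance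
  haveI : CochainComplex.IsStrictlyGE (TS.obj L') b := inferInstance
  haveI : CochainComplex.IsStrictlyGE (TS.obj L) m := CochainComplex.isStrictlyGE_of_ge _ m b (min_le_right _ _)
  haveI : CochainComplex.IsStrictlyGE (TS.obj L') m := CochainComplex.isStrictlyGE_of_ge _ m b (min_le_right _ _)
  have hL : ∀ n, TopCat.Sheaf.IsFlasque (Coh.toAb (L.X n) : TopCat.Sheaf AddCommGrpCat.{u} S.carrier) := fun n => by
    haveI := Module.injective_module_of_injective_object A (E.X n) (inj := hE n)
    haveI : Injective (L.X n) := InjModLib.injective_tilde (R := CommRingCat.of A) (E.X n)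
    exact RpushLib.isFlasque_toAb_injective (L.X n)
  have hL' : ∀ n, TopCat.Sheaf.IsFlasque (Coh.toAb (L'.X n) : TopCat.Sheaf AddCommGrpCat.{u} S.carrier) := fun n => by
    haveI := Module.injective_module_of_injective_object A (E'.X n) (inj := hE' n)
    haveI : Injective (L'.X n) := InjModLib.injective_tilde (R := CommRingCat.of A) (E'.X n)
    exact RpushLib.isFlasque_toAb_injective (L'.X n)
  refine (surjective_map_congr Gd m (K := TS.obj pp) (K' := TS.obj pp') (L := TS.obj L) (L' := TS.obj L')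
    hp (fun n => @isSAcyclic_zqH _ _ _ _ _ (hL n)) hp' (fun n => @isSAcyclic_zqH _ _ _ _ _ (hL' n))
    (TS.map pj) (TS.map l) ((αS.app pp).symm ≪≫ FS.mapIso cS ≪≫ αS.app L)
    ((αS.app pp').symm ≪≫ FS.mapIso cS' ≪≫ αS.app L') ?_ q).trans ?_
  · show DerivedCategory.Q.map (TS.map pj) ≫ αS.inv.app pp' ≫ FS.map cS'.hom ≫ αS.hom.app L' =
      (αS.inv.app pp ≫ FS.map cS.hom ≫ αS.hom.app L) ≫ DerivedCategory.Q.map (TS.map l)
    have n1 : DerivedCategory.Q.map (TS.map pj) ≫ αS.inv.app pp' = αS.inv.app pp ≫ FS.map (DerivedCategory.Q.map pj) :=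
      αS.inv.naturality pj
    have n2 : FS.map (DerivedCategory.Q.map l) ≫ αS.hom.app L' = αS.hom.app L ≫ DerivedCategory.Q.map (TS.map l) :=
      αS.hom.naturality l
    simp only [Category.assoc]
    rw [reassoc_of% n1, ← n2, ← Functor.map_comp_assoc, hcS, Functor.map_comp_assoc]
  let Γ := gamSectIso P (T := PrimeSpectrum.zeroLocus (I : Set A)) fun p => Iff.rfl
  let μ := NatTrans.mapHomologicalComplex Γ.hom (ComplexShape.up ℤ)
  have hn : (Gd.mapHomologicalComplex (ComplexShape.up ℤ)).map (TS.map l) ≫ μ.app E' = μ.app E ≫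
      ((gamAb (PrimeSpectrum.zeroLocus (I : Set A))).mapHomologicalComplex (ComplexShape.up ℤ)).map g :=
    HomologicalComplex.hom_ext _ _ fun n => Γ.hom.naturality (g.f n)
  have hμ : ∀ N : CochainComplex (ModuleCat.{u} A) ℤ,
      Function.Bijective (HomologicalComplex.homologyMap (μ.app N) q) := fun N => by
    haveI : ∀ n, IsIso ((μ.app N).f n) := fun n => inferInstanceAs (IsIso (Γ.hom.app (N.X n)))
    haveI : IsIso (μ.app N) := HomologicalComplex.Hom.isIso_of_components _
    exact (ConcreteCategory.isIso_iff_bijective _).1 inferInstance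
  have hh := congrArg (fun x => HomologicalComplex.homologyMap x q) hn
  simp only [HomologicalComplex.homologyMap_comp] at hh
  constructor
  · intro hs y
    obtain ⟨z, rfl⟩ := (hμ E').2 y
    obtain ⟨x, rfl⟩ := hs z
    exact ⟨_, (ConcreteCategory.congr_hom hh x).symm⟩
  · intro hs y
    obtain ⟨x, hx⟩ := hs (HomologicalComplex.homologyMap (μ.app E') q y)
    obtain ⟨x, rfl⟩ := (hμ E).2 x
    exact ⟨x, (hμ E').1 ((ConcreteCategory.congr_hom hh x).trans hx)⟩

variable [DCoh.HasRpush f]

/-- The comparison of a pushed forward resolution with a model on the base. -/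
theorem pushC_model_sq {M M' : X.Modules} (φ : M ⟶ M') {K K' : Dual.D A}
    (eK : (DCoh.Rpush f).obj (DCoh.inD X M) ≅ (DCoh.tildeD (CommRingCat.of A)).obj K)
    (eK' : (DCoh.Rpush f).obj (DCoh.inD X M') ≅ (DCoh.tildeD (CommRingCat.of A)).obj K') (k : K ⟶ K')
    (hk : (DCoh.Rpush f).map ((DerivedCategory.singleFunctor X.Modules 0).map φ) ≫ eK'.hom =
      eK.hom ≫ (DCoh.tildeD (CommRingCat.of A)).map k)
    {E E' : CochainComplex (ModuleCat.{u} A) ℤ}
    (eE : DerivedCategory.Q.obj E ≅ K) (eE' : DerivedCategory.Q.obj E' ≅ K') (g : E ⟶ E')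
    (hg : DerivedCategory.Q.map g ≫ eE'.hom = eE.hom ≫ k)
    {J J' : CochainComplex X.Modules ℤ} [J.IsKInjective] [J'.IsKInjective]
    (eJ : (DerivedCategory.singleFunctor X.Modules 0).obj M ≅ DerivedCategory.Q.obj J)
    (eJ' : (DerivedCategory.singleFunctor X.Modules 0).obj M' ≅ DerivedCategory.Q.obj J') (j : J ⟶ J')
    (hj : (DerivedCategory.singleFunctor X.Modules 0).map φ ≫ eJ'.hom = eJ.hom ≫ DerivedCategory.Q.map j) :
    ∃ (cS : DerivedCategory.Q.obj (QRlimLib.pushC f J) ≅
        DerivedCategory.Q.obj (((tilde.functor (CommRingCat.of A)).mapHomologicalComplex _).obj E))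
      (cS' : DerivedCategory.Q.obj (QRlimLib.pushC f J') ≅
        DerivedCategory.Q.obj (((tilde.functor (CommRingCat.of A)).mapHomologicalComplex _).obj E')),
      DerivedCategory.Q.map (((Scheme.Modules.pushforward f).mapHomologicalComplex _).map j) ≫ cS'.hom =
        cS.hom ≫ DerivedCategory.Q.map (((tilde.functor (CommRingCat.of A)).mapHomologicalComplex _).map g) := by
  let v : ∀ (I : CochainComplex X.Modules ℤ) [I.IsKInjective], DerivedCategory.Q.obj (QRlimLib.pushC f I) ≅
      (DCoh.Rpush f).obj (DerivedCategory.Q.obj I) := fun I _ =>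
    haveI := KInjDerived.isIso_app (DCoh.Rpush f) (QRlimLib.rpushUnit f) KFlatLib.enoughKInj_modules I
    (asIso ((QRlimLib.rpushUnit f).app ((HomotopyCategory.quotient X.Modules (ComplexShape.up ℤ)).obj I)) :)
  let pj := ((Scheme.Modules.pushforward f).mapHomologicalComplex (ComplexShape.up ℤ)).map j
  have hv : DerivedCategory.Q.map pj ≫ (v J').hom = (v J).hom ≫ (DCoh.Rpush f).map (DerivedCategory.Q.map j) :=
    (QRlimLib.rpushUnit f).naturality ((HomotopyCategory.quotient X.Modules (ComplexShape.up ℤ)).map j)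
  let β := (tilde.functor (CommRingCat.of A)).mapDerivedCategoryFactors
  refine ⟨v J ≪≫ (DCoh.Rpush f).mapIso eJ.symm ≪≫ eK ≪≫ (DCoh.tildeD (CommRingCat.of A)).mapIso eE.symm ≪≫ β.app E,
    v J' ≪≫ (DCoh.Rpush f).mapIso eJ'.symm ≪≫ eK' ≪≫ (DCoh.tildeD (CommRingCat.of A)).mapIso eE'.symm ≪≫ β.app E', ?_⟩
  have n1 : (DCoh.tildeD (CommRingCat.of A)).map (DerivedCategory.Q.map g) ≫ β.hom.app E' =
      β.hom.app E ≫ DerivedCategory.Q.map (((tilde.functor (CommRingCat.of A)).mapHomologicalComplex _).map g) :=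
    β.hom.naturality g
  have hg' : k ≫ eE'.inv = eE.inv ≫ DerivedCategory.Q.map g := by
    rw [Iso.eq_inv_comp, ← Category.assoc, ← hg, Category.assoc, Iso.hom_inv_id, Category.comp_id]
  have hj' : DerivedCategory.Q.map j ≫ eJ'.inv = eJ.inv ≫ (DerivedCategory.singleFunctor X.Modules 0).map φ := by
    rw [Iso.eq_inv_comp, ← Category.assoc, ← hj, Category.assoc, Iso.hom_inv_id, Category.comp_id]
  have h1 : (DCoh.Rpush f).map (DerivedCategory.Q.map j) ≫ (DCoh.Rpush f).map eJ'.inv =
      (DCoh.Rpush f).map eJ.inv ≫ (DCoh.Rpush f).map ((DerivedCategory.singleFunctor X.Modules 0).map φ) := by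
    rw [← Functor.map_comp, ← Functor.map_comp, hj']
  simp only [Iso.trans_hom, Functor.mapIso_hom, Iso.symm_hom, Iso.app_hom, Category.assoc]
  rw [reassoc_of% hv, reassoc_of% h1, reassoc_of% hk, ← n1, ← Functor.map_comp_assoc, hg', Functor.map_comp_assoc]

/-- Surjectivity on cohomology with supports in the preimage of `V(I)`, on injective models of `RΓ`. -/
theorem surjective_HZM_map_iff {M M' : X.Modules} (φ : M ⟶ M') {K K' : Dual.D A}
    (eK : (DCoh.Rpush f).obj (DCoh.inD X M) ≅ (DCoh.tildeD (CommRingCat.of A)).obj K)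
    (eK' : (DCoh.Rpush f).obj (DCoh.inD X M') ≅ (DCoh.tildeD (CommRingCat.of A)).obj K') (k : K ⟶ K')
    (hk : (DCoh.Rpush f).map ((DerivedCategory.singleFunctor X.Modules 0).map φ) ≫ eK'.hom =
      eK.hom ≫ (DCoh.tildeD (CommRingCat.of A)).map k)
    {E E' : CochainComplex (ModuleCat.{u} A) ℤ} (b : ℤ) [E.IsStrictlyGE b] [E'.IsStrictlyGE b]
    (hE : ∀ n, Injective (E.X n)) (hE' : ∀ n, Injective (E'.X n))
    (eE : DerivedCategory.Q.obj E ≅ K) (eE' : DerivedCategory.Q.obj E' ≅ K') (g : E ⟶ E')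
    (hg : DerivedCategory.Q.map g ≫ eE'.hom = eE.hom ≫ k) (I : Ideal A) (q : ℕ) :
    Function.Surjective (LocCohZ.map (X := X.carrier) ((QCohLib.toAbF X).map φ) q
        (le_top : f ⁻¹ᵁ (LocCoh.puncturedOpen A I) ≤ ⊤)) ↔
      Function.Surjective (HomologicalComplex.homologyMap
        (((gamAb (PrimeSpectrum.zeroLocus (I : Set A))).mapHomologicalComplex (ComplexShape.up ℤ)).map g) (q : ℤ)) := by
  haveI : EnoughInjectives X.Modules := IsGrothendieckAbelian.enoughInjectives.{u}
  let J := (injectiveResolution M).cochainComplex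
  let J' := (injectiveResolution M').cochainComplex
  haveI : J.IsKInjective := CochainComplex.isKInjective_of_injective J 0
  haveI : J'.IsKInjective := CochainComplex.isKInjective_of_injective J' 0
  let eJ : (DerivedCategory.singleFunctor X.Modules 0).obj M ≅ DerivedCategory.Q.obj J :=
    (DerivedCategory.singleFunctorIsoCompQ X.Modules 0).app M ≪≫ asIso (DerivedCategory.Q.map (injectiveResolution M).ι')
  let eJ' : (DerivedCategory.singleFunctor X.Modules 0).obj M' ≅ DerivedCategory.Q.obj J' :=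
    (DerivedCategory.singleFunctorIsoCompQ X.Modules 0).app M' ≪≫ asIso (DerivedCategory.Q.map (injectiveResolution M').ι')
  obtain ⟨j, hj⟩ := KInjUse.Q_map_surjective J J' (eJ.inv ≫ (DerivedCategory.singleFunctor X.Modules 0).map φ ≫ eJ'.hom)
  have hj' : (DerivedCategory.singleFunctor X.Modules 0).map φ ≫ eJ'.hom = eJ.hom ≫ DerivedCategory.Q.map j := by
    rw [hj, Iso.hom_inv_id_assoc]
  have hJ : ∀ n, TopCat.Sheaf.IsFlasque (Coh.toAb (J.X n) : TopCat.Sheaf AddCommGrpCat.{u} X.carrier) :=
    fun n => RpushLib.isFlasque_toAb_injective (J.X n)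
  have hJ' : ∀ n, TopCat.Sheaf.IsFlasque (Coh.toAb (J'.X n) : TopCat.Sheaf AddCommGrpCat.{u} X.carrier) :=
    fun n => RpushLib.isFlasque_toAb_injective (J'.X n)
  obtain ⟨cS, cS', hcS⟩ := pushC_model_sq f φ eK eK' k hk eE eE' g hg eJ eJ' j hj'
  refine ((surjective_HZ_toAb_iff _ φ q hJ hJ' eJ eJ' j hj').trans (surjective_zqH_push_iff f _ j (q : ℤ))).trans
    (surjective_zqH_tilde_iff I (fun n => ?_) (fun n => ?_) b hE hE' _ g cS cS' hcS (q : ℤ))
  · haveI := hJ n
    haveI : TopCat.Sheaf.IsFlasque ((CohTop.push f.base).obj (Coh.toAb (J.X n)) :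
        TopCat.Sheaf AddCommGrpCat.{u} (Spec (CommRingCat.of A)).carrier) :=
      TopCat.Presheaf.IsFlasque.pushforward_isFlasque (F := (Coh.toAb (J.X n)).obj) f.base
    exact isSAcyclic_zqH _ ((CohTop.push f.base).obj (Coh.toAb (J.X n)))
  · haveI := hJ' n
    haveI : TopCat.Sheaf.IsFlasque ((CohTop.push f.base).obj (Coh.toAb (J'.X n)) :
        TopCat.Sheaf AddCommGrpCat.{u} (Spec (CommRingCat.of A)).carrier) :=
      TopCat.Presheaf.IsFlasque.pushforward_isFlasque (F := (Coh.toAb (J'.X n)).obj) f.base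
    exact isSAcyclic_zqH _ ((CohTop.push f.base).obj (Coh.toAb (J'.X n)))

end RelLocDualLib
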