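import Groth.Agent.RelLocDualLib.Gamma
import Groth.Agent.RelLocDualLib.Classes
import Groth.Agent.LcCxLib.DualityUnb

/-!
# Local duality and surjectivity on local cohomology
-/

set_option autoImplicit false
set_option linter.style.haveILetI false
set_option linter.unusedSectionVars false
set_option backward.isDefEq.respectTransparency false
set_option backward.isDefEq.respectTransparency.types false
set_option maxHeartbeats 1000000

noncomputable section

universe u

open CategoryTheory CategoryTheory.Limits Opposite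
open Groth.Agent LcFinLib LcCxLib
open Groth.Agent.DualCxLib

attribute [local instance] HasDerivedCategory.standard

namespace RelLocDualLib

variable {A : Type u} [CommRing A] [IsNoetherianRing A] [IsLocalRing A]

theorem mem_gam_maximal_iff {N : ModuleCat.{u} A} {x : N} :
    x ∈ gam (PrimeSpectrum.zeroLocus (IsLocalRing.maximalIdeal A : Set A)) N ↔
      ∃ n : ℕ, ∀ a ∈ IsLocalRing.maximalIdeal A ^ n, a • x = 0 := by
  rw [gam_zeroLocus]; rfl

theorem qPow_ext {N : ModuleCat.{u} A} {n : ℕ} {a b : qPow A n ⟶ N}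
    (h : a.hom (Submodule.Quotient.mk 1) = b.hom (Submodule.Quotient.mk 1)) : a = b :=
  ModuleCat.hom_ext (Submodule.linearMap_qext _ (LinearMap.ext_ring h))

theorem eltMap_one {N : ModuleCat.{u} A} (n : ℕ) (x : N)
    (hx : ∀ a ∈ IsLocalRing.maximalIdeal A ^ n, a • x = 0) :
    (eltMap n x hx).hom (Submodule.Quotient.mk 1) = x :=
  one_smul A x

theorem pow_smul_apply_one {N : ModuleCat.{u} A} {n : ℕ} (α : qPow A n ⟶ N) :
    ∀ a ∈ IsLocalRing.maximalIdeal A ^ n, a • α.hom (Submodule.Quotient.mk 1) = 0 := fun a ha => by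
  rw [← map_smul, ← Submodule.Quotient.mk_smul, smul_eq_mul, mul_one, (Submodule.Quotient.mk_eq_zero _).2 ha, map_zero]

variable {E E' : CochainComplex (ModuleCat.{u} A) ℤ} [E.IsKInjective] [E'.IsKInjective] (g : E ⟶ E') (q : ℤ)

/-- Surjectivity on local cohomology, through maps out of the `A/m^n`. -/
theorem surjective_gam_iff_lift :
    Function.Surjective (HomologicalComplex.homologyMap
      (((gamAb (PrimeSpectrum.zeroLocus (IsLocalRing.maximalIdeal A : Set A))).mapHomologicalComplex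
        (ComplexShape.up ℤ)).map g) q) ↔
      ∀ (n : ℕ) (y : qsg A n ⟶ (DerivedCategory.Q.obj E')⟦q⟧), ∃ (k : ℕ) (h : n ≤ k)
        (x : qsg A k ⟶ (DerivedCategory.Q.obj E)⟦q⟧), x ≫ (DerivedCategory.Q.map g)⟦q⟧' = qS h ≫ y := by
  let T : Set (PrimeSpectrum A) := PrimeSpectrum.zeroLocus (IsLocalRing.maximalIdeal A : Set A)
  rw [surjective_homologyMap_iff]
  constructor
  · intro hs n y
    obtain ⟨z, hz, rfl⟩ := dcls_surjective q y
    let z₁ : E'.X q := z.hom (Submodule.Quotient.mk 1)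
    have hz₁ : z₁ ∈ gam T (E'.X q) := mem_gam_maximal_iff.2 ⟨n, pow_smul_apply_one z⟩
    obtain ⟨⟨w, hwm⟩, hw, ⟨b, hbm⟩, hb⟩ := hs (⟨z₁, hz₁⟩ : gam T (E'.X q))
      (Subtype.ext (ConcreteCategory.congr_hom hz (Submodule.Quotient.mk 1 : qPow A n) :))
    have hw' : (E.d q (q + 1)).hom w = 0 := congrArg Subtype.val hw
    have hb' : (E'.d (q - 1) q).hom b = z₁ - (g.f q).hom w := congrArg Subtype.val hb
    obtain ⟨n₁, hn₁⟩ := mem_gam_maximal_iff.1 hwm
    obtain ⟨n₂, hn₂⟩ := mem_gam_maximal_iff.1 hbm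
    let k := n ⊔ (n₁ ⊔ n₂)
    have hk : n ≤ k := le_sup_left
    have hk₁ : n₁ ≤ k := le_sup_of_le_right le_sup_left
    have hk₂ : n₂ ≤ k := le_sup_of_le_right le_sup_right
    let wk : qPow A k ⟶ E.X q := eltMap k w fun a ha => hn₁ a (Ideal.pow_le_pow_right hk₁ ha)
    let bk : qPow A k ⟶ E'.X (q - 1) := eltMap k b fun a ha => hn₂ a (Ideal.pow_le_pow_right hk₂ ha)
    have hwk : wk ≫ E.d q (q + 1) = 0 := qPow_ext (by
      show (E.d q (q + 1)).hom (wk.hom (Submodule.Quotient.mk 1)) = 0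
      rw [eltMap_one]; exact hw')
    refine ⟨k, hk, dcls E q wk hwk, ?_⟩
    have hzk : (qFac hk ≫ z) ≫ E'.d q (q + 1) = 0 := by rw [Category.assoc, hz, comp_zero]
    have hwg : (wk ≫ g.f q) ≫ E'.d q (q + 1) = 0 := by rw [Category.assoc, g.comm, reassoc_of% hwk, zero_comp]
    rw [← dcls_map q wk hwk g, ← dcls_precomp (qFac hk) q z hz, eq_comm, ← sub_eq_zero,
      ← dcls_sub q (qFac hk ≫ z) (wk ≫ g.f q) hzk hwg, dcls_eq_zero_iff]
    refine ⟨bk, qPow_ext ?_⟩
    show (E'.d (q - 1) q).hom (bk.hom (Submodule.Quotient.mk 1)) =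
      z.hom ((qFac hk).hom (Submodule.Quotient.mk 1)) - (g.f q).hom (wk.hom (Submodule.Quotient.mk 1))
    rw [eltMap_one, eltMap_one, hb']
    rfl
  · rintro hl ⟨z, hzm⟩ hz
    have hz' : (E'.d q (q + 1)).hom z = 0 := congrArg Subtype.val hz
    obtain ⟨n, hn⟩ := mem_gam_maximal_iff.1 hzm
    let zn : qPow A n ⟶ E'.X q := eltMap n z hn
    have hzn : zn ≫ E'.d q (q + 1) = 0 := qPow_ext (by
      show (E'.d q (q + 1)).hom (zn.hom (Submodule.Quotient.mk 1)) = 0
      rw [eltMap_one]; exact hz')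
    obtain ⟨k, hk, x, hx⟩ := hl n (dcls E' q zn hzn)
    obtain ⟨w, hw, rfl⟩ := dcls_surjective q x
    have hzk : (qFac hk ≫ zn) ≫ E'.d q (q + 1) = 0 := by rw [Category.assoc, hzn, comp_zero]
    have hwg : (w ≫ g.f q) ≫ E'.d q (q + 1) = 0 := by rw [Category.assoc, g.comm, reassoc_of% hw, zero_comp]
    rw [← dcls_map q w hw g, ← dcls_precomp (qFac hk) q zn hzn, eq_comm, ← sub_eq_zero,
      ← dcls_sub q (qFac hk ≫ zn) (w ≫ g.f q) hzk hwg, dcls_eq_zero_iff] at hx
    obtain ⟨b, hb⟩ := hx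
    refine ⟨(⟨w.hom (Submodule.Quotient.mk 1), mem_gam_maximal_iff.2 ⟨k, pow_smul_apply_one w⟩⟩ : gam T (E.X q)),
      Subtype.ext (ConcreteCategory.congr_hom hw (Submodule.Quotient.mk 1 : qPow A k) :),
      (⟨b.hom (Submodule.Quotient.mk 1), mem_gam_maximal_iff.2 ⟨k, pow_smul_apply_one b⟩⟩ : gam T (E'.X (q - 1))),
      Subtype.ext ?_⟩
    refine (ConcreteCategory.congr_hom hb (Submodule.Quotient.mk 1 : qPow A k) :).trans ?_
    show zn.hom (Submodule.Quotient.mk 1 : qPow A n) - _ = _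
    rw [eltMap_one]
    rfl

variable {ω : Dual.D A} {V : Type u} [AddCommGroup V] [Module A V] {T : Traces ω V}
  {f : IsLocalRing.ResidueField A →ₗ[A] V} (hω : Dual.IsDualizing A ω) (hn : Dual.IsNormalized A ω)
  (hf : InjHull.IsInjectiveHull f)

include hω hn hf in
/-- For perfect pairings, lifting is dual to injectivity. -/
theorem lift_iff_injective {X X' : Dual.D A} (hX : DPerf T X) (hX' : DPerf T X') (v : X ⟶ X') :
    (∀ (n : ℕ) (y : qsg A n ⟶ X'), ∃ (k : ℕ) (h : n ≤ k) (x : qsg A k ⟶ X), x ≫ v = qS h ≫ y) ↔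
      Function.Injective fun h : X' ⟶ ω⟦(0 : ℤ)⟧ => v ≫ h := by
  let p : (X' ⟶ ω⟦(0 : ℤ)⟧) →ₗ[A] (X ⟶ ω⟦(0 : ℤ)⟧) := pre v (ω⟦(0 : ℤ)⟧)
  constructor
  · intro hl
    refine (injective_iff_map_eq_zero p).2 fun h hh => by_contra fun hne => ?_
    obtain ⟨χ, hχ⟩ := exists_functional_ne_zero hω hn hf hne
    obtain ⟨n, y, rfl⟩ := hX'.2 χ
    obtain ⟨k, hk, x, hx⟩ := hl n y
    refine hχ ?_
    rw [← phi_qS T hk, ← hx, phi_comp, LinearMap.comp_apply]
    exact (congrArg _ hh).trans (map_zero _)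
  · intro hinj n y
    obtain ⟨χ, hχ⟩ := (Module.Baer.of_injective hf.isInjective).extension_property p hinj (phi T n y)
    obtain ⟨l, x, hx⟩ := hX.2 χ
    let m := n ⊔ l
    have h0 : phi T m ((qS (le_sup_right : l ≤ m) ≫ x) ≫ v - qS (le_sup_left : n ≤ m) ≫ y) = 0 := by
      rw [phi_sub, phi_comp, phi_qS, phi_qS, hx, ← hχ, sub_self]
    obtain ⟨k, hk, hd⟩ := hX'.1 m _ h0
    refine ⟨k, (le_sup_left : n ≤ m).trans hk, qS hk ≫ qS (le_sup_right : l ≤ m) ≫ x, ?_⟩
    rw [Preadditive.comp_sub, sub_eq_zero, ← Category.assoc (qS hk) (qS (le_sup_left : n ≤ m)), qS_trans] at hd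
    simpa only [Category.assoc] using hd

/-- Injectivity of precomposition is unchanged by shifting. -/
theorem injective_comp_shift_iff {X X' : Dual.D A} (v : X ⟶ X') (Z Z' : Dual.D A) (q : ℤ) (e : Z'⟦q⟧ ≅ Z) :
    (Function.Injective fun h : X'⟦q⟧ ⟶ Z => v⟦q⟧' ≫ h) ↔ Function.Injective fun h : X' ⟶ Z' => v ≫ h := by
  constructor
  · intro hi a b hab
    have h1 : v⟦q⟧' ≫ a⟦q⟧' ≫ e.hom = v⟦q⟧' ≫ b⟦q⟧' ≫ e.hom := by
      rw [← Functor.map_comp_assoc, ← Functor.map_comp_assoc, show v ≫ a = v ≫ b from hab]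
    exact (shiftFunctor (Dual.D A) q).map_injective ((cancel_mono e.hom).1 (hi h1))
  · intro hi a b hab
    obtain ⟨a', ha⟩ := (shiftFunctor (Dual.D A) q).map_surjective (a ≫ e.inv)
    obtain ⟨b', hb⟩ := (shiftFunctor (Dual.D A) q).map_surjective (b ≫ e.inv)
    have h1 : v ≫ a' = v ≫ b' := (shiftFunctor (Dual.D A) q).map_injective (by
      rw [Functor.map_comp, Functor.map_comp, ha, hb, ← Category.assoc, show v⟦q⟧' ≫ a = v⟦q⟧' ≫ b from hab,
        Category.assoc])
    refine (cancel_mono e.inv).1 ?_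
    rw [← ha, ← hb, hi h1]

include hω hn in
/-- Surjectivity on local cohomology is dual to injectivity of maps into the dualizing complex. -/
theorem surjective_gam_iff_injective {E E' : CochainComplex (ModuleCat.{u} A) ℤ} [E.IsKInjective] [E'.IsKInjective]
    (g : E ⟶ E') {K K' : Dual.D A} (eE : DerivedCategory.Q.obj E ≅ K) (eE' : DerivedCategory.Q.obj E' ≅ K')
    (k : K ⟶ K') (hg : DerivedCategory.Q.map g ≫ eE'.hom = eE.hom ≫ k)
    (hK : ∀ i, Module.Finite A (Dual.HD A K i)) (hK' : ∀ i, Module.Finite A (Dual.HD A K' i)) (q : ℤ) :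
    Function.Surjective (HomologicalComplex.homologyMap
      (((gamAb (PrimeSpectrum.zeroLocus (IsLocalRing.maximalIdeal A : Set A))).mapHomologicalComplex
        (ComplexShape.up ℤ)).map g) q) ↔
      Function.Injective fun h : K' ⟶ ω⟦-q⟧ => k ≫ h := by
  obtain ⟨V, _, _, f, hf⟩ := InjHullLib.exists_injectiveHull (R := A) (IsLocalRing.ResidueField A)
  obtain ⟨T⟩ := nonempty_traces hω hn hf
  rw [← injective_comp_shift_iff k (ω⟦(0 : ℤ)⟧) (ω⟦-q⟧) q (shift₂ ω (-q) q 0 (neg_add_cancel q)),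
    ← lift_iff_injective hω hn hf (T := T) (dPerf_shift_finite hω hn hf K hK q) (dPerf_shift_finite hω hn hf K' hK' q),
    surjective_gam_iff_lift]
  let S := shiftFunctor (Dual.D A) q
  have hsq : S.map (DerivedCategory.Q.map g) ≫ S.map eE'.hom = S.map eE.hom ≫ S.map k := by
    rw [← Functor.map_comp, ← Functor.map_comp, hg]
  constructor
  · intro hl n y
    obtain ⟨m, hm, x, hx⟩ := hl n (y ≫ S.map eE'.inv)
    refine ⟨m, hm, x ≫ S.map eE.hom, ?_⟩
    rw [Category.assoc]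
    refine (congrArg (x ≫ ·) hsq.symm).trans ((Category.assoc _ _ _).symm.trans ((congrArg (· ≫ _) hx).trans ?_))
    simp only [S, Category.assoc, Iso.map_inv_hom_id, Category.comp_id]
  · intro hl n y
    obtain ⟨m, hm, x, hx⟩ := hl n (y ≫ S.map eE'.hom)
    refine ⟨m, hm, x ≫ S.map eE.inv, (cancel_mono (S.map eE'.hom)).1 ?_⟩
    rw [Category.assoc, Category.assoc]
    refine (congrArg (fun t => x ≫ S.map eE.inv ≫ t) hsq).trans ?_
    simp only [S, Iso.map_inv_hom_id_assoc]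
    exact hx.trans (Category.assoc _ _ _).symm

end RelLocDualLib
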