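import Groth.Agent.RelLocDualLib.Main
import Groth.Agent.RelLocDualLib.Natural
import Groth.Agent.RelLocDualLib.Pairing
import Groth.Agent.RelLocDualLib.Twist

/-!
# Relative local duality and injectivity
-/

set_option autoImplicit false
set_option linter.style.haveILetI false
set_option linter.unusedSectionVars false
set_option backward.isDefEq.respectTransparency false
set_option backward.isDefEq.respectTransparency.types false
set_option maxHeartbeats 1000000
set_option synthInstance.maxHeartbeats 100000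

noncomputable section

universe u

open CategoryTheory CategoryTheory.Limits AlgebraicGeometry Abelian
open Groth.Agent

attribute [local instance] HasDerivedCategory.standard

namespace RelLocDualLib

/-- Injectivity is transported along natural bijections. -/
theorem injective_congr_sq {α β α' β' : Type*} {f : α → β} {g : α' → β'} (u : α ≃ α') (v : β ≃ β')
    (h : ∀ x, v (f x) = g (u x)) : Function.Injective f ↔ Function.Injective g := by
  have h' : g ∘ u = v ∘ f := funext fun x => (h x).symm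
  rw [← v.injective.of_comp_iff f, ← h']
  exact u.injective_comp g

variable {A : Type u} [CommRing A] [IsNoetherianRing A] [PreservesFiniteLimits (tilde.functor (CommRingCat.of A))]
  {X : Scheme.{u}} (f : X ⟶ Spec (CommRingCat.of A)) [IsProper f] [DCoh.HasRpush f]
  (hf : DCoh.RpushPreservesQCoh f) (a : DCoh.DQCoh (Spec (CommRingCat.of A)) ⥤ DCoh.DQCoh X)
  (adj : DCoh.RpushQ f hf ⊣ a) (W : DCoh.DQCoh (Spec (CommRingCat.of A))) {ω : Dual.D A}
  (eW : W.obj ≅ (DCoh.tildeD (CommRingCat.of A)).obj ω)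

include adj eW in
/-- Injectivity of precomposition, along the adjunction. -/
theorem injective_precomp_adj_iff {P P' : DCoh.DQCoh X} (m : P ⟶ P') {K K' : Dual.D A}
    (eK : (DCoh.Rpush f).obj P.obj ≅ (DCoh.tildeD (CommRingCat.of A)).obj K)
    (eK' : (DCoh.Rpush f).obj P'.obj ≅ (DCoh.tildeD (CommRingCat.of A)).obj K') (k : K ⟶ K')
    (hk : (DCoh.Rpush f).map m.hom ≫ eK'.hom = eK.hom ≫ (DCoh.tildeD (CommRingCat.of A)).map k) (t : ℤ) :
    (Function.Injective fun g : K' ⟶ ω⟦t⟧ => k ≫ g) ↔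
      Function.Injective fun g : P'.obj ⟶ (a.obj W).obj⟦t⟧ => m.hom ≫ g := by
  obtain ⟨es⟩ := nonempty_shift_rightAdjoint f hf a adj W t
  let tl := DCoh.tildeD (CommRingCat.of A)
  haveI : tl.Full := KoszOrthLib.full_tD (A := A)
  haveI : tl.Faithful := KoszOrthLib.faithful_tD (A := A)
  have d1 : (Function.Injective fun g : K' ⟶ ω⟦t⟧ => k ≫ g) ↔
      Function.Injective fun g : (DCoh.RpushQ f hf).obj P' ⟶ W⟦t⟧ => (DCoh.RpushQ f hf).map m ≫ g := by
    let down : ∀ (Q : DCoh.DQCoh X) (L : Dual.D A), ((DCoh.Rpush f).obj Q.obj ≅ tl.obj L) →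
        ((L ⟶ ω⟦t⟧) ≃ ((DCoh.RpushQ f hf).obj Q ⟶ W⟦t⟧)) := fun Q L e =>
      { toFun := fun g => ObjectProperty.homMk (e.hom ≫ tl.map g ≫ (shiftW W eW t).inv)
        invFun := fun φ => tl.preimage (e.inv ≫ φ.hom ≫ (shiftW W eW t).hom)
        left_inv := fun g => tl.map_injective (by simp [tl])
        right_inv := fun φ => ObjectProperty.hom_ext _ (by simp [tl]) }
    refine injective_congr_sq (down P' K' eK') (down P K eK) fun g => ObjectProperty.hom_ext _ ?_
    show eK.hom ≫ tl.map (k ≫ g) ≫ _ = (DCoh.Rpush f).map m.hom ≫ eK'.hom ≫ tl.map g ≫ _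
    rw [reassoc_of% hk, Functor.map_comp, Category.assoc]
  have d2 : (Function.Injective fun g : (DCoh.RpushQ f hf).obj P' ⟶ W⟦t⟧ => (DCoh.RpushQ f hf).map m ≫ g) ↔
      Function.Injective fun g : P' ⟶ a.obj (W⟦t⟧) => m ≫ g :=
    injective_congr_sq (adj.homEquiv P' (W⟦t⟧)) (adj.homEquiv P (W⟦t⟧)) fun g => adj.homEquiv_naturality_left m g
  refine d1.trans (d2.trans ?_)
  let up : ∀ Q : DCoh.DQCoh X, (Q ⟶ a.obj (W⟦t⟧)) ≃ (Q.obj ⟶ (a.obj W).obj⟦t⟧) := fun Q =>
    { toFun := fun φ => φ.hom ≫ es.hom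
      invFun := fun φ => ObjectProperty.homMk (φ ≫ es.inv)
      left_inv := fun φ => ObjectProperty.hom_ext _ (by simp)
      right_inv := fun φ => by simp }
  exact injective_congr_sq (up P') (up P) fun g => (Category.assoc m.hom g.hom es.hom : (m.hom ≫ g.hom) ≫ es.hom = m.hom ≫ g.hom ≫ es.hom)

section Ext

variable {C : Type (u + 1)} [Category.{u} C] [Abelian C] [HasExt.{u} C]

/-- Injectivity of precomposition on `Ext`, in the derived category. -/
theorem injective_ext_precomp_iff {M M' G : C} (φ : M ⟶ M') (n : ℕ) {Z : DerivedCategory C}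
    (e : Z ≅ ((DerivedCategory.singleFunctor C 0).obj G)⟦(n : ℤ)⟧) :
    (Function.Injective fun g : (DerivedCategory.singleFunctor C 0).obj M' ⟶ Z =>
        (DerivedCategory.singleFunctor C 0).map φ ≫ g) ↔
      Function.Injective fun x : Ext M' G n => (Ext.mk₀ φ).comp x (zero_add n) := by
  let u : ∀ N : C, ((DerivedCategory.singleFunctor C 0).obj N ⟶ Z) ≃ Ext N G n := fun N =>
    (Iso.homCongr (Iso.refl _) e).trans (Ext.homAddEquiv (X := N) (Y := G) (n := n)).toEquiv.symm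
  refine injective_congr_sq (u M') (u M) fun g => ?_
  apply Ext.homAddEquiv.injective
  show Ext.homAddEquiv (Ext.homAddEquiv.symm _) = _
  rw [AddEquiv.apply_symm_apply, Ext.homAddEquiv_apply, Ext.comp_hom, Ext.mk₀_hom, ShiftedHom.mk₀_comp]
  show _ = _ ≫ Ext.homAddEquiv (Ext.homAddEquiv.symm _)
  rw [AddEquiv.apply_symm_apply]
  simp

end Ext

variable [IsLocalRing A] (hω : Dual.IsDualizing A ω)

include hω adj eW in
/-- Surjectivity on cohomology with supports in the closed fibre is dual to injectivity on `Ext`. -/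
theorem surjective_HZM_iff_injective_ext [HasExt.{u} X.Modules] {M M' : X.Modules} (hM : Coh.IsCoh M)
    (hM' : Coh.IsCoh M') (φ : M ⟶ M') (d : ℤ)
    (hconc : ∀ j : ℤ, j ≠ d → IsZero (DCoh.HD (a.obj W).obj j)) (n : ℕ)
    (hdim : topologicalKrullDim X = (n : WithBot ℕ∞)) (i j : ℕ) (hij : i + j = n) :
    Function.Surjective (LocCohZ.map (X := X.carrier) ((QCohLib.toAbF X).map φ) j
        (le_top : f ⁻¹ᵁ (LocCoh.puncturedOpen A (IsLocalRing.maximalIdeal A)) ≤ ⊤)) ↔
      Function.Injective fun x : Ext M' (DCoh.HD (a.obj W).obj d) i => (Ext.mk₀ φ).comp x (zero_add i) := by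
  obtain ⟨K, ⟨eK⟩, hK0, hKf⟩ := exists_rgamma f M hM
  obtain ⟨K', ⟨eK'⟩, hK0', hKf'⟩ := exists_rgamma f M' hM'
  haveI : (DCoh.tildeD (CommRingCat.of A)).Full := KoszOrthLib.full_tD (A := A)
  obtain ⟨k, hk⟩ := (DCoh.tildeD (CommRingCat.of A)).map_surjective
    (eK.inv ≫ (DCoh.Rpush f).map ((DerivedCategory.singleFunctor X.Modules 0).map φ) ≫ eK'.hom)
  have hk' : (DCoh.Rpush f).map ((DerivedCategory.singleFunctor X.Modules 0).map φ) ≫ eK'.hom =
      eK.hom ≫ (DCoh.tildeD (CommRingCat.of A)).map k := by rw [hk, Iso.hom_inv_id_assoc]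
  obtain ⟨E, hEge, hE, hEk, ⟨eE⟩⟩ := LcCxLib.exists_model K 0 hK0
  obtain ⟨E', hEge', hE', hEk', ⟨eE'⟩⟩ := LcCxLib.exists_model K' 0 hK0'
  obtain ⟨g, hg⟩ := Groth.Agent.DerLib.KInjUse.Q_map_surjective E E' (eE.hom ≫ k ≫ eE'.inv)
  have hg' : DerivedCategory.Q.map g ≫ eE'.hom = eE.hom ≫ k := by
    rw [hg, Category.assoc, Category.assoc, Iso.inv_hom_id, Category.comp_id]
  rw [surjective_HZM_map_iff f φ eK eK' k hk' 0 hE hE' eE eE' g hg' (IsLocalRing.maximalIdeal A) j,
    surjective_gam_iff_injective (DualCxLib.isDualizing_shift hω _)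
      (isNormalized_shift f hf a adj W eW hω d hconc n hdim) g eE eE' k hg' hKf hKf' (j : ℤ)]
  let c := ((shiftFunctorAdd' (Dual.D A) (d + n) (-(j : ℤ)) _ rfl).app ω).symm
  rw [injective_congr_sq (f := fun h : K' ⟶ (ω⟦d + (n : ℤ)⟧)⟦-(j : ℤ)⟧ => k ≫ h)
    (g := fun h : K' ⟶ ω⟦(d + n) + -(j : ℤ)⟧ => k ≫ h) ((Iso.refl K').homCongr c) ((Iso.refl K).homCongr c)
    (fun h => by simp)]
  rw [injective_precomp_adj_iff f hf a adj W eW
    (P := ⟨DCoh.inD X M, PerfBaseLib.isQCohD_inD _ hM.1⟩) (P' := ⟨DCoh.inD X M', PerfBaseLib.isQCohD_inD _ hM'.1⟩)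
    (ObjectProperty.homMk ((DerivedCategory.singleFunctor X.Modules 0).map φ)) eK eK' k hk' ((d + n) + -(j : ℤ))]
  haveI : (a.obj W).obj.IsGE d := (DerivedCategory.isGE_iff _ _).2 fun k hk => hconc k (by omega)
  haveI : (a.obj W).obj.IsLE d := (DerivedCategory.isLE_iff _ _).2 fun k hk => hconc k (by omega)
  obtain ⟨e₃⟩ := DerLib.Devissage.nonempty_iso_single (a.obj W).obj d
  let e₄ : (a.obj W).obj⟦(d + n) + -(j : ℤ)⟧ ≅ (DCoh.inD X (DCoh.HD (a.obj W).obj d))⟦(i : ℤ)⟧ :=
    (shiftFunctor _ _).mapIso e₃ ≪≫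
      (((DerivedCategory.singleFunctors X.Modules).shiftIso ((d + n) + -(j : ℤ)) (-(i : ℤ)) d (by omega)).app _) ≪≫
      (((DerivedCategory.singleFunctors X.Modules).shiftIso (i : ℤ) (-(i : ℤ)) 0 (by omega)).app _).symm
  exact injective_ext_precomp_iff φ i e₄

end RelLocDualLib
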