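import Groth.Agent.RelLocDualLib.Gamma
import Groth.Agent.ShriekLib.DualLocal
import Groth.Agent.LcCxLib.DualityUnb
import Groth.Agent.KiehlLib.Tensor
import Groth.Agent.HTorCohLib.Main
import Groth.Agent.BidualSchLib.Chart
import Groth.Agent.DualCxLib.LocDualGor
import Groth.Agent.ShriekLib.Indep

/-!
# Relative local duality over a local base
-/

set_option autoImplicit false
set_option linter.style.haveILetI false
set_option linter.unusedSectionVars false
set_option backward.isDefEq.respectTransparency false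
set_option backward.isDefEq.respectTransparency.types false
set_option maxHeartbeats 1000000
set_option synthInstance.maxHeartbeats 100000

noncomputable section

universe u

open CategoryTheory CategoryTheory.Limits AlgebraicGeometry
open Groth.Agent

attribute [local instance] HasDerivedCategory.standard

namespace RelLocDualLib

variable {A : Type u} [CommRing A] [IsNoetherianRing A] [PreservesFiniteLimits (tilde.functor (CommRingCat.of A))]
  {X : Scheme.{u}} (f : X ⟶ Spec (CommRingCat.of A)) [IsProper f] [DCoh.HasRpush f]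

/-- The direct image of a coherent module comes from a complex with finite cohomology. -/
theorem exists_rgamma (M : X.Modules) (hM : Coh.IsCoh M) :
    ∃ K : Dual.D A, Nonempty ((DCoh.Rpush f).obj (DCoh.inD X M) ≅ (DCoh.tildeD (CommRingCat.of A)).obj K) ∧
      (∀ i, i < 0 → Subsingleton (Dual.HD A K i)) ∧ ∀ i, Module.Finite A (Dual.HD A K i) := by
  haveI := ShriekLib.isNoetherian_of_proper f
  have hc := KiehlLib.isCohD_rpush_proper f (DCoh.inD X M) (HTorCohLib.isCohD_inD hM)
  obtain ⟨K, ⟨e⟩⟩ := (TildeDerLib.isQCohD_iff (CommRingCat.of A) _).1 fun i => (hc i).1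
  haveI := QRlimLib.rpush_isGE f (DCoh.inD X M) 0
  haveI : ((DCoh.tildeD (CommRingCat.of A)).obj K).IsGE 0 := DerivedCategory.TStructure.t.isGE_of_iso e.symm 0
  refine ⟨K, ⟨e.symm⟩, fun i hi => ModuleCat.subsingleton_of_isZero ((KoszOrthLib.isZero_tD_homology_iff K i).1
    (DerivedCategory.isZero_of_isGE _ 0 i hi)), fun i => ?_⟩
  exact BidualSchLib.finite_of_isCoh_tilde (QCohLib.isCoh_of_iso
    ((TildeDerLib.tildeHIso (CommRingCat.of A) i K).symm ≪≫ (DerivedCategory.homologyFunctor _ i).mapIso e).symm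
    (hc i))

variable (hf : DCoh.RpushPreservesQCoh f) (a : DCoh.DQCoh (Spec (CommRingCat.of A)) ⥤ DCoh.DQCoh X)
  (adj : DCoh.RpushQ f hf ⊣ a) (W : DCoh.DQCoh (Spec (CommRingCat.of A))) {ω : Dual.D A}
  (eW : W.obj ≅ (DCoh.tildeD (CommRingCat.of A)).obj ω)

/-- The shifted object over the base. -/
def shiftW (s : ℤ) : (W⟦s⟧).obj ≅ (DCoh.tildeD (CommRingCat.of A)).obj (ω⟦s⟧) :=
  ((DCoh.IsQCohD (X := Spec (CommRingCat.of A))).ι.commShiftIso s).app W ≪≫ (shiftFunctor _ s).mapIso eW ≪≫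
    (((DCoh.tildeD (CommRingCat.of A)).commShiftIso s).app ω).symm

include adj in
/-- The right adjoint commutes with shifts. -/
theorem nonempty_shift_rightAdjoint (s : ℤ) : Nonempty ((a.obj (W⟦s⟧)).obj ≅ (a.obj W).obj⟦s⟧) := by
  obtain ⟨_, _⟩ := QRlimLib.exists_isTriangulated_rpush f
  haveI : (DCoh.RpushQ f hf).IsTriangulated :=
    ObjectProperty.isTriangulated_lift _ ((DCoh.IsQCohD (X := X)).ι ⋙ DCoh.Rpush f) _
  letI := adj.rightAdjointCommShift ℤ
  exact ⟨(DCoh.IsQCohD (X := X)).ι.mapIso ((a.commShiftIso s).app W) ≪≫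
    ((DCoh.IsQCohD (X := X)).ι.commShiftIso s).app (a.obj W)⟩

include adj eW in
/-- Maps from `RΓ(M)` into shifts of `ω` are maps from `M` into shifts of the right adjoint. -/
theorem nonempty_hom_equiv (M : X.Modules) (hM : DCoh.IsQCohD (DCoh.inD X M)) (K : Dual.D A)
    (eK : (DCoh.Rpush f).obj (DCoh.inD X M) ≅ (DCoh.tildeD (CommRingCat.of A)).obj K) (t : ℤ) :
    Nonempty ((K ⟶ ω⟦t⟧) ≃ (DCoh.inD X M ⟶ (a.obj W).obj⟦t⟧)) := by
  obtain ⟨es⟩ := nonempty_shift_rightAdjoint f hf a adj W t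
  let M₀ : DCoh.DQCoh X := ⟨DCoh.inD X M, hM⟩
  haveI := KoszOrthLib.full_tD (A := A)
  haveI := KoszOrthLib.faithful_tD (A := A)
  exact ⟨((Functor.FullyFaithful.ofFullyFaithful (DCoh.tildeD (CommRingCat.of A))).homEquiv.trans
    ((eK.symm.homCongr (shiftW W eW t).symm).trans
      ((DCoh.IsQCohD (X := Spec (CommRingCat.of A))).fullyFaithfulι.homEquiv.symm.trans
        ((adj.homEquiv M₀ (W⟦t⟧)).trans ((DCoh.IsQCohD (X := X)).fullyFaithfulι.homEquiv.trans
          ((Iso.refl (DCoh.inD X M)).homCongr es))))))⟩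

section Local

variable [IsLocalRing A] (hω : Dual.IsDualizing A ω)

include hω in
/-- A shift of a dualizing complex is normalized. -/
theorem exists_normalized_shift : ∃ s : ℤ, Dual.IsNormalized A (ω⟦s⟧) := by
  obtain ⟨N, hN, -⟩ := DualCxLib.ext_residueField_single_degree ω hω (IsLocalRing.maximalIdeal A)
  exact ⟨N, fun i hi => (((Iso.refl _).homCongr (DualCxLib.shift₂ ω N i (N + i) rfl))).subsingleton_congr.2
    (hN _ (by omega))⟩

include hω adj eW in
/-- If the relative dualizing complex lives in degree `d` and `X` has dimension `n`, then `ω[d + n]` is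
normalized. -/
theorem isNormalized_shift (d : ℤ) (hconc : ∀ j : ℤ, j ≠ d → IsZero (DCoh.HD (a.obj W).obj j)) (n : ℕ)
    (hdim : topologicalKrullDim X = (n : WithBot ℕ∞)) : Dual.IsNormalized A (ω⟦d + n⟧) := by
  haveI : ∀ (U V : Scheme.{u}) (j : U ⟶ V) [IsOpenImmersion j],
      PreservesFiniteLimits (Scheme.Modules.restrictFunctor j) := fun _ _ _ _ => inferInstance
  haveI : ∀ R : CommRingCat.{u}, PreservesFiniteLimits (tilde.functor R) :=
    fun R => HensSchLib.tilde_preservesFiniteLimits R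
  haveI := ShriekLib.isNoetherian_of_proper f
  obtain ⟨s, hs⟩ := exists_normalized_shift hω
  obtain ⟨es⟩ := nonempty_shift_rightAdjoint f hf a adj W s
  obtain ⟨-, -, htop, -⟩ := Dual3Lib.amplitude_local (DualCxLib.isDualizing_shift hω s) hs f hf a adj (W⟦s⟧)
    (shiftW W eW s) n hdim
  obtain ⟨c, hc⟩ := Dual3Lib.exists_specChain (Z := X) n hdim.ge
  obtain ⟨Z, hZ, hsub⟩ := exists_mem_irreducibleComponents_subset_of_isIrreducible
    (closure {c 0}) isIrreducible_singleton.closure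
  have hmem : ∀ b, c b ∈ Z := fun b => hsub (specializes_iff_mem_closure.1 (hc.2 0 b (Fin.zero_le b)))
  have hdZ : topologicalKrullDim ↥Z = (n : WithBot ℕ∞) := by
    refine le_antisymm ((Topology.IsInducing.subtypeVal.topologicalKrullDim_le).trans hdim.le) ?_
    haveI : QuasiSober Z :=
      (isClosed_of_mem_irreducibleComponents Z hZ).isClosedEmbedding_subtypeVal.quasiSober
    have h : FibDimLib.IsSpecChain (fun b => (⟨c b, hmem b⟩ : Z)) :=
      ⟨fun b b' hbb => hc.1 (congrArg Subtype.val hbb),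
        fun b b' hbb => Topology.IsInducing.subtypeVal.specializes_iff.1 (hc.2 b b' hbb)⟩
    exact h.le_topologicalKrullDim
  have hnt : ¬ IsZero (DCoh.HD (a.obj (W⟦s⟧)).obj (-(n : ℤ))) := fun h => by
    have h0 : c 0 ∈ {x : X | Nontrivial ((DCoh.HD (a.obj (W⟦s⟧)).obj (-(n : ℤ))).presheaf.stalk x)} := by
      rw [htop]
      exact Set.mem_iUnion₂.2 ⟨Z, ⟨hZ, hdZ⟩, hmem 0⟩
    exact (not_subsingleton_iff_nontrivial.2 h0) ((DCohRestrLib.isZero_iff_subsingleton_stalks _).1 h (c 0))
  have hs' : s = d + n := by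
    by_contra hne
    refine hnt ((hconc (-(n : ℤ) + s) (by omega)).of_iso ?_)
    exact (DerivedCategory.homologyFunctor X.Modules (-(n : ℤ))).mapIso es ≪≫
      ((DerivedCategory.homologyFunctor X.Modules 0).shiftIso s (-(n : ℤ)) (-(n : ℤ) + s) (by omega)).app _
  exact hs' ▸ hs

include hω adj eW in
/-- Cohomology with supports in the closed fibre vanishes iff the dual group of morphisms vanishes. -/
theorem subsingleton_HZM_iff (M : X.Modules) (hM : Coh.IsCoh M) (d : ℤ)
    (hconc : ∀ j : ℤ, j ≠ d → IsZero (DCoh.HD (a.obj W).obj j)) (n : ℕ)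
    (hdim : topologicalKrullDim X = (n : WithBot ℕ∞)) (i j : ℕ) (hij : i + j = n) :
    Subsingleton (LocCohZ.HZM X M j (f ⁻¹ᵁ (LocCoh.puncturedOpen A (IsLocalRing.maximalIdeal A)))) ↔
      Subsingleton (DCoh.inD X M ⟶ (DCoh.inD X (DCoh.HD (a.obj W).obj d))⟦(i : ℤ)⟧) := by
  haveI := hM.1
  obtain ⟨K, ⟨eK⟩, hK0, hKf⟩ := exists_rgamma f M hM
  obtain ⟨e₁⟩ := nonempty_HZM_equiv_HDI f M K 0 hK0 eK (IsLocalRing.maximalIdeal A) j
  refine e₁.toEquiv.subsingleton_congr.trans ?_
  have hn := isNormalized_shift f hf a adj W eW hω d hconc n hdim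
  refine (LcCxLib.subsingleton_HDI_iff (DualCxLib.isDualizing_shift hω _) hn K 0 hK0 hKf j).trans ?_
  obtain ⟨e₂⟩ := nonempty_hom_equiv f hf a adj W eW M (PerfBaseLib.isQCohD_inD _ hM.1) K eK ((d + n) + -(j : ℤ))
  haveI : (a.obj W).obj.IsGE d := (DerivedCategory.isGE_iff _ _).2 fun k hk => hconc k (by omega)
  haveI : (a.obj W).obj.IsLE d := (DerivedCategory.isLE_iff _ _).2 fun k hk => hconc k (by omega)
  obtain ⟨e₃⟩ := DerLib.Devissage.nonempty_iso_single (a.obj W).obj d
  let e₄ : (a.obj W).obj⟦(d + n) + -(j : ℤ)⟧ ≅ (DCoh.inD X (DCoh.HD (a.obj W).obj d))⟦(i : ℤ)⟧ :=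
    (shiftFunctor _ _).mapIso e₃ ≪≫
      (((DerivedCategory.singleFunctors X.Modules).shiftIso ((d + n) + -(j : ℤ)) (-(i : ℤ)) d (by omega)).app _) ≪≫
      (((DerivedCategory.singleFunctors X.Modules).shiftIso (i : ℤ) (-(i : ℤ)) 0 (by omega)).app _).symm
  exact (((Iso.refl K).homCongr ((shiftFunctorAdd' (Dual.D A) (d + n) (-(j : ℤ)) _ rfl).app ω).symm).trans
    (e₂.trans ((Iso.refl _).homCongr e₄))).subsingleton_congr

end Local

end RelLocDualLib
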