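import Groth.Agent.RelLocDualLib.Main
import Groth.Agent.Dual3Lib.EvalSpec
import Groth.Agent.Dual3Lib.ExtHH
import Groth.Agent.FModLib.AdjExt
import Groth.Agent.PnDualLib.HomExt
import Groth.Agent.LMLib.Dual
import Groth.Agent.SurfExtLib.Bidual
import Groth.Agent.CurvLib.Line
import Groth.Agent.PnDualLib.HomExtAdd
import Groth.Agent.RpushLib.Compare

/-!
# Linear relative local duality
-/

set_option autoImplicit false
set_option linter.style.haveILetI false
set_option linter.unusedSectionVars false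
set_option backward.isDefEq.respectTransparency false
set_option backward.isDefEq.respectTransparency.types false
set_option maxHeartbeats 1000000
set_option synthInstance.maxHeartbeats 100000

noncomputable section

universe u

open CategoryTheory CategoryTheory.Limits AlgebraicGeometry Abelian
open Groth.Agent
open Dual3Lib (sMod sMod_natural sCx)
open CohCmpLib (homMod)

attribute [local instance] HasDerivedCategory.standard

namespace RelLocDualLib

section Rpush

variable {X S : Scheme.{u}} (f : X ⟶ S) [DCoh.HasRpush f]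

/-- `Rf_*` respects multiplication by functions of the base. -/
theorem rpush_map_sMod (M : X.Modules) {L : CochainComplex S.Modules ℤ}
    (e : (DCoh.Rpush f).obj (DCoh.inD X M) ⟶ DerivedCategory.Q.obj L) (r : Coh.Γtop S) :
    (DCoh.Rpush f).map ((DerivedCategory.singleFunctor X.Modules 0).map (sMod M (f.appTop r))) ≫ e =
      e ≫ DerivedCategory.Q.map (sCx L r) := by
  obtain ⟨I, hI, ⟨i₀⟩⟩ :=
    Groth.Agent.DerLib.KInjDerived.essSurj_kInjective KFlatLib.enoughKInj_modules (DCoh.inD X M)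
  let i : DerivedCategory.Q.obj I ≅ DCoh.inD X M := ((DerivedCategory.quotientCompQhIso X.Modules).app I).symm ≪≫ i₀
  haveI := hI
  haveI := Groth.Agent.DerLib.KInjDerived.isIso_app (DCoh.Rpush f) (QRlimLib.rpushUnit f)
    KFlatLib.enoughKInj_modules I
  let v : DerivedCategory.Q.obj (((Scheme.Modules.pushforward f).mapHomologicalComplex (ComplexShape.up ℤ)).obj I) ⟶
      (DCoh.Rpush f).obj (DerivedCategory.Q.obj I) :=
    (QRlimLib.rpushUnit f).app ((HomotopyCategory.quotient X.Modules (ComplexShape.up ℤ)).obj I)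
  haveI : IsIso v := inferInstanceAs (IsIso ((QRlimLib.rpushUnit f).app _))
  have hs : sCx (((Scheme.Modules.pushforward f).mapHomologicalComplex (ComplexShape.up ℤ)).obj I) r =
      ((Scheme.Modules.pushforward f).mapHomologicalComplex (ComplexShape.up ℤ)).map (sCx I (f.appTop r)) :=
    HomologicalComplex.hom_ext _ _ fun k => (Dual3Lib.sMod_pushforward f (I.X k) r).symm
  have hv : DerivedCategory.Q.map (sCx _ r) ≫ v =
      v ≫ (DCoh.Rpush f).map (DerivedCategory.Q.map (sCx I (f.appTop r))) := by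
    rw [hs]
    exact (QRlimLib.rpushUnit f).naturality
      ((HomotopyCategory.quotient X.Modules (ComplexShape.up ℤ)).map (sCx I (f.appTop r)))
  rw [← cancel_epi ((DCoh.Rpush f).map i.hom), ← Category.assoc, ← Functor.map_comp]
  have hi := Dual3Lib.inD_sMod_comm M (f.appTop r) i.inv
  have hi' : i.hom ≫ (DerivedCategory.singleFunctor X.Modules 0).map (sMod M (f.appTop r)) =
      DerivedCategory.Q.map (sCx I (f.appTop r)) ≫ i.hom := by
    rw [← cancel_mono i.inv, Category.assoc, hi, Iso.hom_inv_id_assoc, Category.assoc, Iso.hom_inv_id, Category.comp_id]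
  rw [hi', Functor.map_comp, Category.assoc, ← cancel_epi v, ← reassoc_of% hv]
  have h2 := Dual3Lib.Q_sCx_comm r (v ≫ (DCoh.Rpush f).map i.hom ≫ e)
  simp only [Category.assoc] at h2
  exact h2

end Rpush

variable {A : Type u} [CommRing A] [IsNoetherianRing A] [PreservesFiniteLimits (tilde.functor (CommRingCat.of A))]

/-- `tildeD` turns scalars into multiplication by functions. -/
theorem tildeD_map_smul (E : CochainComplex (ModuleCat.{u} A) ℤ) {K : Dual.D A} (e : DerivedCategory.Q.obj E ≅ K) (r : A) :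
    (DCoh.tildeD (CommRingCat.of A)).map (r • 𝟙 K) ≫ ((DCoh.tildeD (CommRingCat.of A)).map e.inv ≫
        ((tilde.functor (CommRingCat.of A)).mapDerivedCategoryFactors).hom.app E) =
      ((DCoh.tildeD (CommRingCat.of A)).map e.inv ≫
        ((tilde.functor (CommRingCat.of A)).mapDerivedCategoryFactors).hom.app E) ≫
        DerivedCategory.Q.map (sCx (((tilde.functor (CommRingCat.of A)).mapHomologicalComplex (ComplexShape.up ℤ)).obj E)
          ((Scheme.ΓSpecIso (CommRingCat.of A)).inv.hom r)) := by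
  have hs : sCx (((tilde.functor (CommRingCat.of A)).mapHomologicalComplex (ComplexShape.up ℤ)).obj E)
        ((Scheme.ΓSpecIso (CommRingCat.of A)).inv.hom r) =
      ((tilde.functor (CommRingCat.of A)).mapHomologicalComplex (ComplexShape.up ℤ)).map (r • 𝟙 E) :=
    HomologicalComplex.hom_ext _ _ fun k => by
      show sMod _ _ = (tilde.functor (CommRingCat.of A)).map (r • 𝟙 (E.X k))
      rw [show (r • 𝟙 (E.X k)) = ModuleCat.ofHom (r • LinearMap.id) from rfl]
      exact (Dual3Lib.tilde_map_smul (E.X k) r).symm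
  rw [hs, ← Category.assoc, ← Functor.map_comp, show (r • 𝟙 K) ≫ e.inv = e.inv ≫ DerivedCategory.Q.map (r • 𝟙 E) by
    rw [Functor.map_smul, CategoryTheory.Functor.map_id, Linear.smul_comp, Linear.comp_smul, Category.id_comp, Category.comp_id],
    Functor.map_comp, Category.assoc, Category.assoc]
  exact congrArg (_ ≫ ·) ((tilde.functor (CommRingCat.of A)).mapDerivedCategoryFactors.hom.naturality (r • 𝟙 E))

variable {X : Scheme.{u}} (f : X ⟶ Spec (CommRingCat.of A)) [IsProper f] [DCoh.HasRpush f]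
  (hf : DCoh.RpushPreservesQCoh f) (a : DCoh.DQCoh (Spec (CommRingCat.of A)) ⥤ DCoh.DQCoh X)
  (adj : DCoh.RpushQ f hf ⊣ a) (W : DCoh.DQCoh (Spec (CommRingCat.of A))) {ω : Dual.D A}
  (eW : W.obj ≅ (DCoh.tildeD (CommRingCat.of A)).obj ω)

/-- Scalars on `RΓ(M)` are multiplication by functions on `M`. -/
theorem smul_rgamma (M : X.Modules) (K : Dual.D A) (b : ℤ) (hKb : ∀ i, i < b → Subsingleton (Dual.HD A K i))
    (eK : (DCoh.Rpush f).obj (DCoh.inD X M) ≅ (DCoh.tildeD (CommRingCat.of A)).obj K) (r : A) :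
    (DCoh.Rpush f).map ((DerivedCategory.singleFunctor X.Modules 0).map (sMod M (Coh.toGlobal f r))) ≫ eK.hom =
      eK.hom ≫ (DCoh.tildeD (CommRingCat.of A)).map (r • 𝟙 K) := by
  obtain ⟨E, -, -, -, ⟨e⟩⟩ := LcCxLib.exists_model K b hKb
  let c := (DCoh.tildeD (CommRingCat.of A)).mapIso e.symm ≪≫
    ((tilde.functor (CommRingCat.of A)).mapDerivedCategoryFactors).app E
  have h1 := rpush_map_sMod f M (eK.hom ≫ c.hom) ((Scheme.ΓSpecIso (CommRingCat.of A)).inv.hom r)
  have h2 : (DCoh.tildeD (CommRingCat.of A)).map (r • 𝟙 K) ≫ c.hom = c.hom ≫ _ := tildeD_map_smul E e r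
  refine (cancel_mono c.hom).1 ?_
  rw [Category.assoc, Category.assoc, h2]
  exact h1.trans (Category.assoc _ _ _)

include adj eW in
/-- Maps from `RΓ(M)` into shifts of `ω` are maps from `M` into shifts of the right adjoint, linearly. -/
theorem exists_hom_addEquiv (M : X.Modules) (hM : DCoh.IsQCohD (DCoh.inD X M)) (K : Dual.D A) (b : ℤ)
    (hKb : ∀ i, i < b → Subsingleton (Dual.HD A K i))
    (eK : (DCoh.Rpush f).obj (DCoh.inD X M) ≅ (DCoh.tildeD (CommRingCat.of A)).obj K) (t : ℤ) :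
    ∃ Φ : (K ⟶ ω⟦t⟧) ≃+ (DCoh.inD X M ⟶ (a.obj W).obj⟦t⟧), ∀ (r : A) (g : K ⟶ ω⟦t⟧),
      Φ (r • g) = (DerivedCategory.singleFunctor X.Modules 0).map (sMod M (Coh.toGlobal f r)) ≫ Φ g := by
  obtain ⟨_, _⟩ := QRlimLib.exists_isTriangulated_rpush f
  haveI : (DCoh.RpushQ f hf).IsTriangulated :=
    ObjectProperty.isTriangulated_lift _ ((DCoh.IsQCohD (X := X)).ι ⋙ DCoh.Rpush f) _
  haveI : (DCoh.RpushQ f hf).Additive := inferInstance
  obtain ⟨es⟩ := nonempty_shift_rightAdjoint f hf a adj W t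
  let M₀ : DCoh.DQCoh X := ⟨DCoh.inD X M, hM⟩
  haveI := KoszOrthLib.full_tD (A := A)
  haveI := KoszOrthLib.faithful_tD (A := A)
  let tl := DCoh.tildeD (CommRingCat.of A)
  let down : (K ⟶ ω⟦t⟧) ≃+ ((DCoh.RpushQ f hf).obj M₀ ⟶ W⟦t⟧) :=
    { toFun := fun g => ObjectProperty.homMk (eK.hom ≫ tl.map g ≫ (shiftW W eW t).inv)
      invFun := fun φ => tl.preimage (eK.inv ≫ φ.hom ≫ (shiftW W eW t).hom)
      left_inv := fun g => tl.map_injective (by simp [tl])
      right_inv := fun φ => ObjectProperty.hom_ext _ (by simp [tl])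
      map_add' := fun g g' => ObjectProperty.hom_ext _ (by simp [tl, Functor.map_add]; rfl) }
  let up : (M₀ ⟶ a.obj (W⟦t⟧)) ≃+ (DCoh.inD X M ⟶ (a.obj W).obj⟦t⟧) :=
    { toFun := fun φ => φ.hom ≫ es.hom
      invFun := fun φ => ObjectProperty.homMk (φ ≫ es.inv)
      left_inv := fun φ => ObjectProperty.hom_ext _ (by simp)
      right_inv := fun φ => by simp
      map_add' := fun φ φ' => Preadditive.add_comp _ _ _ _ _ _ }
  refine ⟨down.trans ((adj.homAddEquiv M₀ (W⟦t⟧)).trans up), fun r g => ?_⟩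
  let m : M₀ ⟶ M₀ := ObjectProperty.homMk
    ((DerivedCategory.singleFunctor X.Modules 0).map (sMod M (Coh.toGlobal f r)))
  have hd : down (r • g) = (DCoh.RpushQ f hf).map m ≫ down g := ObjectProperty.hom_ext _ (by
    show eK.hom ≫ tl.map (r • g) ≫ _ = (DCoh.Rpush f).map ((DerivedCategory.singleFunctor X.Modules 0).map (sMod M (Coh.toGlobal f r))) ≫ eK.hom ≫ tl.map g ≫ _
    rw [reassoc_of% (smul_rgamma f M K b hKb eK r), ← Functor.map_comp_assoc, Linear.smul_comp, Category.id_comp])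
  show (adj.homEquiv M₀ (W⟦t⟧) (down (r • g))).hom ≫ es.hom = _
  rw [hd, adj.homEquiv_naturality_left]
  exact Category.assoc _ _ _

section Mod

variable [HasExt.{u} X.Modules] {M : X.Modules}

/-- Precomposition by a global function is postcomposition by it on `Ext`. -/
theorem ext_sMod_comm (N : X.Modules) (n : ℕ) (x : Ext M N n) (c : Coh.Γtop X) :
    (Ext.mk₀ (sMod M c)).comp x (zero_add n) = x.comp (Ext.mk₀ (sMod N c)) (add_zero n) := by
  let C := (CochainComplex.singleFunctor X.Modules 0).obj N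
  let e : ((DerivedCategory.singleFunctor X.Modules 0).obj N)⟦(n : ℤ)⟧ ≅ DerivedCategory.Q.obj (C⟦(n : ℤ)⟧) :=
    (shiftFunctor _ _).mapIso ((DerivedCategory.singleFunctorIsoCompQ X.Modules 0).app N) ≪≫
      ((DerivedCategory.Q.commShiftIso (n : ℤ)).app C).symm
  apply Ext.ext
  rw [Ext.comp_hom, Ext.comp_hom, Ext.mk₀_hom, Ext.mk₀_hom, ShiftedHom.mk₀_comp, ShiftedHom.comp_mk₀,
    ← cancel_mono e.hom, Category.assoc]
  refine (Dual3Lib.inD_sMod_comm M c (x.hom ≫ e.hom)).trans ?_
  rw [Category.assoc, Category.assoc]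
  refine congrArg (x.hom ≫ ·) ?_
  have h1 : DerivedCategory.Q.map (sCx (C⟦(n : ℤ)⟧) c) =
      DerivedCategory.Q.map (((CochainComplex.singleFunctor X.Modules 0).map (sMod N c))⟦(n : ℤ)⟧') := by
    congr 1
    refine HomologicalComplex.hom_ext _ _ fun k => ?_
    exact (HomologicalComplex.congr_hom (Dual3Lib.single_map_sMod N c) (k + n)).symm
  rw [h1]
  simp only [e, Iso.trans_hom, Functor.mapIso_hom, Iso.symm_hom, Iso.app_inv, Iso.app_hom, Category.assoc]
  erw [← DerivedCategory.Q.commShiftIso_inv_naturality]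
  rw [← Functor.map_comp_assoc]
  erw [← (DerivedCategory.singleFunctorIsoCompQ X.Modules 0).hom.naturality (sMod N c)]
  rw [Functor.map_comp_assoc]

theorem preservesFiniteLimits_tensor (hM : FlatMod.IsFinLocFree M) :
    PreservesFiniteLimits ((DCoh.tensorBi (X := X)).obj M) := by
  haveI : ((DCoh.tensorBi (X := X)).obj M).IsLeftAdjoint := (HomCohLib.homAdj M).isLeftAdjoint
  refine ((Functor.preservesFiniteLimits_tfae _).out 0 3 rfl rfl).mp fun S hS => ?_
  haveI := hS.mono_f
  haveI := hS.epi_g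
  exact ⟨(((Functor.preservesFiniteColimits_tfae ((DCoh.tensorBi (X := X)).obj M)).out 3 0 rfl rfl).mp
    inferInstance S hS).1, PnDualLib.mono_tensor_locFree hM S.f⟩

theorem preservesFiniteColimits_homFun (hM : FlatMod.IsFinLocFree M) :
    haveI : (PnDualLib.homFun M).IsRightAdjoint := (HomCohLib.homAdj M).isRightAdjoint
    haveI : (PnDualLib.homFun M).Additive := (HomCohLib.homAdj M).right_adjoint_additive
    PreservesFiniteColimits (PnDualLib.homFun M) := by
  haveI : (PnDualLib.homFun M).IsRightAdjoint := (HomCohLib.homAdj M).isRightAdjoint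
  haveI : (PnDualLib.homFun M).Additive := (HomCohLib.homAdj M).right_adjoint_additive
  refine ((Functor.preservesFiniteColimits_tfae _).out 0 3 rfl rfl).mp fun S hS => ?_
  haveI := hS.mono_f
  haveI := hS.epi_g
  refine ⟨(((Functor.preservesFiniteLimits_tfae (PnDualLib.homFun M)).out 3 0 rfl rfl).mp inferInstance S hS).1, ?_⟩
  rw [PnDualLib.homFun_map]
  exact PnDualLib.epi_homFun hM S.g

/-- `Ext(M, N) = H(X, Hom(M, N))`, compatibly with functions. -/
theorem exists_ext_hh (hM : FlatMod.IsFinLocFree M) (N : X.Modules) (n : ℕ) :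
    ∃ Φ : Ext M N n ≃+ Coh.HH X (homMod M N) n, ∀ (c : Coh.Γtop X) (x : Ext M N n),
      Φ ((Ext.mk₀ (sMod M c)).comp x (zero_add n)) = (c • Φ x : Coh.HH X (homMod M N) n) := by
  haveI : EnoughInjectives X.Modules := IsGrothendieckAbelian.enoughInjectives.{u}
  let T := (DCoh.tensorBi (X := X)).obj M
  haveI := preservesFiniteLimits_tensor hM
  haveI : T.IsLeftAdjoint := (HomCohLib.homAdj M).isLeftAdjoint
  haveI : PreservesFiniteColimits T := inferInstance
  haveI : (PnDualLib.homFun M).IsRightAdjoint := (HomCohLib.homAdj M).isRightAdjoint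
  haveI : (PnDualLib.homFun M).Additive := (HomCohLib.homAdj M).right_adjoint_additive
  haveI := preservesFiniteColimits_homFun hM
  let u : T.obj (Coh.structureModule X) ≅ M := KFlatLib.tensSwap (Coh.structureModule X) M ≪≫ KFlatLib.tensUnitIso M
  let pre : Ext M N n ≃+ Ext (T.obj (Coh.structureModule X)) N n :=
    { toFun := fun x => (Ext.mk₀ u.hom).comp x (zero_add n)
      invFun := fun x => (Ext.mk₀ u.inv).comp x (zero_add n)
      left_inv := fun x => by simp
      right_inv := fun x => by simp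
      map_add' := fun x y => Ext.comp_add _ _ _ _ }
  let mid : Ext (T.obj (Coh.structureModule X)) N n ≃+ Ext (Coh.structureModule X) (homMod M N) n :=
    AddEquiv.ofBijective (FModLib.extAdjHom (L := T) (R := PnDualLib.homFun M) (HomCohLib.homAdj M) _ N n)
      (FModLib.extAdjHom_bijective _ _ _ n)
  refine ⟨pre.trans (mid.trans (Dual3Lib.extHHEquiv (homMod M N) n)), fun c x => ?_⟩
  have hp : pre ((Ext.mk₀ (sMod M c)).comp x (zero_add n)) = (pre x).comp (Ext.mk₀ (sMod N c)) (add_zero n) := by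
    show (Ext.mk₀ u.hom).comp _ (zero_add n) = ((Ext.mk₀ u.hom).comp x (zero_add n)).comp _ (add_zero n)
    rw [ext_sMod_comm, Ext.comp_assoc_of_third_deg_zero]
  show Dual3Lib.extHH _ n (mid (pre _)) = _
  rw [hp]
  refine (congrArg (Dual3Lib.extHH _ n) (FModLib.extAdjHom_natural (L := T) (R := PnDualLib.homFun M)
    (HomCohLib.homAdj M) _ (sMod N c) n (pre x))).trans ?_
  rw [PnDualLib.homFun_map, show HomCohLib.mapR M (sMod N c) = sMod (homMod M N) c from PnDualLib.mapR_smulHom N c]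
  exact Dual3Lib.extHH_natural (sMod (homMod M N) c) n _

end Mod

/-- Functoriality of `H` respects functions. -/
theorem hm_smul {N N' : X.Modules} (φ : N ⟶ N') (p : ℕ) (c : Coh.Γtop X) (x : Coh.HH X N p) :
    CohCmpLib.hm φ p (c • x : Coh.HH X N p) = CohCmpLib.hs c N' p (CohCmpLib.hm φ p x) := by
  show Sheaf.H.map _ p (Sheaf.H.map (Coh.smulAb N c) p x) = Sheaf.H.map (Coh.smulAb N' c) p (Sheaf.H.map _ p x)
  rw [← Sheaf.H.map_comp_apply, ← Sheaf.H.map_comp_apply]
  exact congrArg (fun ψ => Sheaf.H.map ψ p x) (RpushLib.smulAb_natural φ c)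

/-- Isomorphic first arguments give isomorphic sheaves of homomorphisms. -/
theorem nonempty_homMod_congr_left {N N' : X.Modules} (e : N ≅ N') (P : X.Modules) :
    Nonempty (homMod N P ≅ homMod N' P) :=
  ⟨((HomCohLib.homAdj N).rightAdjointUniq
    ((HomCohLib.homAdj N').ofNatIsoLeft ((DCoh.tensorBi (X := X)).mapIso e.symm))).app P⟩

section Local

variable [IsLocalRing A] (hω : Dual.IsDualizing A ω)
  {E : Type u} [AddCommGroup E] [Module A E] {ι : IsLocalRing.ResidueField A →ₗ[A] E}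

include hω adj eW in
/-- Cohomology with supports in the closed fibre is the Matlis dual of cohomology. -/
theorem nonempty_HZM_dual (hE : InjHull.IsInjectiveHull ι) {L : X.Modules} (hL : FlatMod.IsFinLocFree L)
    [X.Over (Spec (CommRingCat.of A))] (hover : (X ↘ Spec (CommRingCat.of A)) = f)
    (M : X.Modules) (eM : M ≅ homMod L (Coh.structureModule X)) (d : ℤ)
    (hconc : ∀ j : ℤ, j ≠ d → IsZero (DCoh.HD (a.obj W).obj j)) (n : ℕ)
    (hdim : topologicalKrullDim X = (n : WithBot ℕ∞)) (i j : ℕ) (hij : i + j = n) :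
    Nonempty (LocCohZ.HZM X M i (f ⁻¹ᵁ (LocCoh.puncturedOpen A (IsLocalRing.maximalIdeal A))) ≃+
      (Coh.HH X (CohB1.tensorMod (DCoh.HD (a.obj W).obj d) L) j →ₗ[A] E)) := by
  let G := DCoh.HD (a.obj W).obj d
  have hO := CurvLib.isInvertible_structureModule (X := X)
  have hMf : FlatMod.IsFinLocFree M := PerfLib.isFinLocFree_of_iso eM.symm
    (CohCmpLib.isFinLocFree_homMod hL (AmpleDevLib.isFinLocFree_of_isInvertible hO))
  haveI := ShriekLib.isNoetherian_of_proper f
  have hMc : Coh.IsCoh M := LocSuppLib.isCoh_of_isFinLocFree hMf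
  obtain ⟨K, ⟨eK⟩, hK0, hKf⟩ := exists_rgamma f M hMc
  obtain ⟨e₁⟩ := nonempty_HZM_equiv_HDI f M K 0 hK0 eK (IsLocalRing.maximalIdeal A) i
  have hn := isNormalized_shift f hf a adj W eW hω d hconc n hdim
  obtain ⟨e₂⟩ := LcCxLib.nonempty_HDI_equiv_dual (DualCxLib.isDualizing_shift hω _) hn hE K hKf (i : ℤ)
  obtain ⟨Φ, hΦ⟩ := exists_hom_addEquiv f hf a adj W eW M (PerfBaseLib.isQCohD_inD _ hMc.1) K 0 hK0 eK
    ((d + n) + -(i : ℤ))
  haveI : (a.obj W).obj.IsGE d := (DerivedCategory.isGE_iff _ _).2 fun k hk => hconc k (by omega)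
  haveI : (a.obj W).obj.IsLE d := (DerivedCategory.isLE_iff _ _).2 fun k hk => hconc k (by omega)
  obtain ⟨e₃⟩ := DerLib.Devissage.nonempty_iso_single (a.obj W).obj d
  let e₄ : (a.obj W).obj⟦(d + n) + -(i : ℤ)⟧ ≅ (DCoh.inD X G)⟦(j : ℤ)⟧ :=
    (shiftFunctor _ _).mapIso e₃ ≪≫
      (((DerivedCategory.singleFunctors X.Modules).shiftIso ((d + n) + -(i : ℤ)) (-(j : ℤ)) d (by omega)).app _) ≪≫
      (((DerivedCategory.singleFunctors X.Modules).shiftIso (j : ℤ) (-(j : ℤ)) 0 (by omega)).app _).symm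
  haveI : HasExt.{u} X.Modules := hasExt_of_enoughInjectives.{u} _
  obtain ⟨Ψ, hΨ⟩ := exists_ext_hh hMf G j
  -- the double dual
  haveI := SurfExtLib.isIso_ev (Coh.structureModule X) hO hL
  obtain ⟨t₁⟩ := LMLib.exists_homMod_iso_tensor hMf G
  obtain ⟨td⟩ : Nonempty (ChernOpLib.du M ≅ L) := by
    obtain ⟨p⟩ := nonempty_homMod_congr_left eM (Coh.structureModule X)
    exact ⟨p ≪≫ (asIso (SurfExtLib.ev (Coh.structureModule X) L)).symm⟩
  let t : homMod M G ≅ CohB1.tensorMod G L :=
    t₁ ≪≫ HilbPolyLib.congrLeft td G ≪≫ HilbPolyLib.swapIso L G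
  -- the shift comparison on the base
  let s : (K ⟶ (ω⟦d + n⟧)⟦-(i : ℤ)⟧) ≃ₗ[A] (K ⟶ ω⟦(d + n) + -(i : ℤ)⟧) :=
    { toFun := fun g => g ≫ ((shiftFunctorAdd' (Dual.D A) (d + n) (-(i : ℤ)) _ rfl).app ω).inv
      invFun := fun g => g ≫ ((shiftFunctorAdd' (Dual.D A) (d + n) (-(i : ℤ)) _ rfl).app ω).hom
      left_inv := fun g => by simp
      right_inv := fun g => by simp
      map_add' := fun g g' => Preadditive.add_comp _ _ _ _ _ _
      map_smul' := fun r g => Linear.smul_comp _ _ _ _ _ _ }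
  let toExt : (DCoh.inD X M ⟶ (a.obj W).obj⟦(d + n) + -(i : ℤ)⟧) ≃+ Ext M G j :=
    { toFun := fun g => Ext.homAddEquiv.symm (g ≫ e₄.hom)
      invFun := fun x => Ext.homAddEquiv x ≫ e₄.inv
      left_inv := fun g => by simp
      right_inv := fun x => by
        simp only [Category.assoc, Iso.inv_hom_id, Category.comp_id]
        exact AddEquiv.symm_apply_apply _ x
      map_add' := fun g g' => by rw [Preadditive.add_comp]; exact map_add _ _ _ }
  let F : (K ⟶ ω⟦(d + n) + -(i : ℤ)⟧) ≃+ Coh.HH X (CohB1.tensorMod G L) j :=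
    (Φ.trans toExt).trans (Ψ.trans (PnDualLib.hmIso t j))
  have hF : ∀ (r : A) g, F (r • g) = (r • F g : Coh.HH X (CohB1.tensorMod G L) j) := by
    intro r g
    have h1 : toExt (Φ (r • g)) = (Ext.mk₀ (sMod M (Coh.toGlobal f r))).comp (toExt (Φ g)) (zero_add j) := by
      rw [hΦ]
      apply Ext.homAddEquiv.injective
      show Ext.homAddEquiv (Ext.homAddEquiv.symm _) = _
      rw [AddEquiv.apply_symm_apply, Ext.homAddEquiv_apply, Ext.comp_hom, Ext.mk₀_hom, ShiftedHom.mk₀_comp]
      show _ = _ ≫ Ext.homAddEquiv (Ext.homAddEquiv.symm (Φ g ≫ e₄.hom))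
      rw [AddEquiv.apply_symm_apply]
      exact Category.assoc _ _ _
    show PnDualLib.hmIso t j (Ψ (toExt (Φ (r • g)))) =
      CohCmpLib.hs (Coh.toGlobal (X ↘ Spec (CommRingCat.of A)) r) (CohB1.tensorMod G L) j
        (PnDualLib.hmIso t j (Ψ (toExt (Φ g))))
    rw [h1, hΨ, hover]
    exact hm_smul t.hom j _ _
  exact ⟨e₁.trans (e₂.toAddEquiv.trans
    ((s.trans (F.toLinearEquiv hF)).arrowCongr (LinearEquiv.refl A E)).toAddEquiv)⟩

end Local

end RelLocDualLib
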